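import Groth.Agent.LimLib.EventualSep
import Mathlib.AlgebraicGeometry.Morphisms.Immersion

/-! Properties of structure maps of the stages of an affine limit. -/

set_option autoImplicit false
set_option backward.isDefEq.respectTransparency false
set_option backward.defeqAttrib.useBackward true
set_option linter.style.haveILetI false

universe u

open CategoryTheory Limits AlgebraicGeometry TopologicalSpace

namespace Groth.Agent.LimLib

noncomputable section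

/-- A property may be checked over finitely many opens containing the image. -/
theorem of_restrict {P : MorphismProperty Scheme.{u}} [IsZariskiLocalAtTarget P]
    (hcomp : ∀ {X Y Z : Scheme.{u}} (f : X ⟶ Y) (g : Y ⟶ Z) [IsOpenImmersion g], P f → P (f ≫ g))
    {X S : Scheme.{u}} (f : X ⟶ S) {ι : Type*} (U : ι → S.Opens)
    (h : ∀ x : X, ∃ a, f x ∈ U a) (hU : ∀ a, P (f ∣_ U a)) : P f := by
  let V := ⨆ a, U a
  have htop : f ⁻¹ᵁ V = ⊤ := eq_top_iff.2 fun x _ => by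
    obtain ⟨a, ha⟩ := h x
    exact TopologicalSpace.Opens.mem_iSup.2 ⟨a, ha⟩
  have hf : P (f ∣_ V) := by
    refine IsZariskiLocalAtTarget.of_iSup_eq_top (fun a => V.ι ⁻¹ᵁ U a) ?_ fun a => ?_
    · rw [← Scheme.Hom.preimage_iSup]
      exact Scheme.Opens.ι_preimage_self V
    · have hle : U a ≤ V := le_iSup U a
      have e : V.ι ''ᵁ (V.ι ⁻¹ᵁ U a) = U a := by
        rw [Scheme.Hom.image_preimage_eq_opensRange_inf, Scheme.Opens.opensRange_ι, inf_eq_right]
        exact hle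
      exact (P.arrow_mk_iso_iff (morphismRestrictRestrict f V _ ≪≫ morphismRestrictEq f e)).2 (hU a)
  haveI : IsIso (f ⁻¹ᵁ V).ι := by rw [htop]; exact inferInstanceAs (IsIso X.topIso.hom)
  rw [← IsIso.inv_hom_id_assoc (f ⁻¹ᵁ V).ι f, ← morphismRestrict_ι]
  exact (P.cancel_left_of_respectsIso _ _).2 (hcomp _ _ hf)

/-- Finitely many affine opens contain the image of a quasi-compact scheme. -/
theorem exists_affine_image_cover {X S : Scheme.{u}} [CompactSpace X] (f : X ⟶ S) (O : S.Opens)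
    (hO : ∀ x : X, f x ∈ O) :
    ∃ s : Finset S.affineOpens, (∀ U ∈ s, (U : S.Opens) ≤ O) ∧ ∀ x : X, ∃ U ∈ s, f x ∈ (U : S.Opens) := by
  obtain ⟨s, hs⟩ := isCompact_univ.elim_finite_subcover
    (fun U : {U : S.affineOpens // (U : S.Opens) ≤ O} => f ⁻¹' ((U.1 : S.Opens) : Set S))
    (fun U => U.1.1.2.preimage f.continuous) (fun x _ => by
      obtain ⟨_, ⟨U, hU, rfl⟩, hxU, hUO⟩ :=
        S.isBasis_affineOpens.exists_subset_of_mem_open (hO x) O.2
      exact Set.mem_iUnion.2 ⟨⟨⟨U, hU⟩, hUO⟩, hxU⟩)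
  classical
  refine ⟨s.image Subtype.val, fun U hU => ?_, fun x => ?_⟩
  · obtain ⟨V, -, rfl⟩ := Finset.mem_image.1 hU
    exact V.2
  · obtain ⟨U, hU, hx⟩ := Set.mem_iUnion₂.1 (hs (Set.mem_univ x))
    exact ⟨U.1, Finset.mem_image_of_mem _ hU, hx⟩

theorem appLE_appLE_apply {A B C : Scheme.{u}} (f : A ⟶ B) (g : B ⟶ C) {U : C.Opens} {V : B.Opens}
    {W : A.Opens} (e : V ≤ g ⁻¹ᵁ U) (e' : W ≤ f ⁻¹ᵁ V) (x : Γ(C, U)) :
    f.appLE V W e' (g.appLE U V e x) =
      (f ≫ g).appLE U W (e'.trans (f.preimage_mono e)) x := by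
  rw [← ConcreteCategory.comp_apply, Scheme.Hom.appLE_comp_appLE]

theorem appLE_congr_hom {A B : Scheme.{u}} {f g : A ⟶ B} (h : f = g) {U : B.Opens} {W : A.Opens}
    (e : W ≤ f ⁻¹ᵁ U) (e' : W ≤ g ⁻¹ᵁ U) (x : Γ(B, U)) :
    f.appLE U W e x = g.appLE U W e' x := by
  subst h; rfl

theorem map_app_apply {A B : Scheme.{u}} (f : A ⟶ B) {U : B.Opens} {W : A.Opens}
    (e : W ≤ f ⁻¹ᵁ U) (x : Γ(B, U)) :
    A.presheaf.map (homOfLE e).op (f.app U x) = f.appLE U W e x := rfl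

theorem surjective_app_comp {X Y Z : Scheme.{u}} (f : X ⟶ Y) (g : Y ⟶ Z) (U : Z.Opens)
    (hg : Function.Surjective (g.app U)) (hf : Function.Surjective (f.app (g ⁻¹ᵁ U))) :
    Function.Surjective ((f ≫ g).app U) := fun y => by
  obtain ⟨z, rfl⟩ := hf y
  obtain ⟨w, rfl⟩ := hg z
  exact ⟨w, by rw [Scheme.Hom.comp_app]; rfl⟩

theorem surjective_app_congr {X Y : Scheme.{u}} {f g : X ⟶ Y} (h : f = g) (U : Y.Opens)
    (hf : Function.Surjective (f.app U)) : Function.Surjective (g.app U) := by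
  subst h; exact hf

/-- Property of all late stages over finitely many opens. -/
theorem exists_forall_of_finite {I : Type u} [SmallCategory I] [IsCofiltered I] {κ : Type*}
    [Finite κ] {i : I} (Q : κ → I → Prop)
    (h : ∀ a, ∃ (j : I) (_ : j ⟶ i), ∀ (k : I) (_ : k ⟶ j), Q a k) :
    ∃ (j : I) (_ : j ⟶ i), ∀ a (k : I) (_ : k ⟶ j), Q a k := by
  choose j φ hj using h
  obtain ⟨l, fl, gl, -⟩ := IsCofiltered.wideCospan φ
  exact ⟨l, fl, fun a k ψ => hj a k (ψ ≫ gl a)⟩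

variable {I : Type u} [SmallCategory I] [IsCofiltered I] {D : I ⥤ Scheme.{u}} {S : Scheme.{u}}
  (t : ∀ i, D.obj i ⟶ S) (ht : ∀ ⦃i j : I⦄ (φ : j ⟶ i), D.map φ ≫ t i = t j) {c : Cone D}
  [∀ {i j : I} (f : i ⟶ j), IsAffineHom (D.map f)]

include ht

omit [IsCofiltered I] [∀ {i j : I} (f : i ⟶ j), IsAffineHom (D.map f)] in
theorem preimage_t {i j : I} (φ : j ⟶ i) (U : S.Opens) :
    D.map φ ⁻¹ᵁ ((t i) ⁻¹ᵁ U) = (t j) ⁻¹ᵁ U := by
  rw [← Scheme.Hom.comp_preimage, ht]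

variable (hc : IsLimit c)
include hc

omit [∀ {i j : I} (f : i ⟶ j), IsAffineHom (D.map f)] hc in
theorem π_comp_t (i j : I) : c.π.app i ≫ (t i) = c.π.app j ≫ (t j) := by
  have : ∀ {k l : I} (φ : l ⟶ k), c.π.app k ≫ (t k) = c.π.app l ≫ (t l) := fun {k l} φ => by
    rw [← ht φ, c.w_assoc]
  rw [this (IsCofiltered.minToLeft i j), this (IsCofiltered.minToRight i j)]

theorem exists_isAffineOpen_base [∀ i, CompactSpace (D.obj i)] [∀ i, QuasiSeparatedSpace (D.obj i)]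
    {i : I} (U : S.Opens) (hUc : IsCompact (((t i) ⁻¹ᵁ U : (D.obj i).Opens) : Set (D.obj i)))
    (h : IsAffineOpen ((c.π.app i ≫ (t i)) ⁻¹ᵁ U)) :
    ∃ (j : I) (_ : j ⟶ i), ∀ (k : I) (_ : k ⟶ j), IsAffineOpen ((t k) ⁻¹ᵁ U) := by
  obtain ⟨j, φ, hj⟩ := exists_isAffineOpen_map_preimage hc hUc h
  refine ⟨j, φ, fun k ψ => ?_⟩
  rw [preimage_t t ht] at hj
  rw [← preimage_t t ht ψ]
  exact hj.preimage _

/-- Surjectivity on sections descends to a stage if the transition maps are closed immersions. -/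
theorem exists_app_surjective (hcl : ∀ {i j : I} (f : i ⟶ j), IsClosedImmersion (D.map f))
    {i : I} [LocallyOfFiniteType ((t i))] (U : S.Opens) (hU : IsAffineOpen U)
    (hW : IsAffineOpen ((t i) ⁻¹ᵁ U))
    (h : Function.Surjective ((c.π.app i ≫ (t i)).app U)) :
    ∃ (j : I) (_ : j ⟶ i), ∀ (k : I) (_ : k ⟶ j), Function.Surjective (((t k)).app U) := by
  let W := (t i) ⁻¹ᵁ U
  have hle : ∀ j : Over i, D.map j.hom ⁻¹ᵁ W ≤ (t j.left) ⁻¹ᵁ U := fun j => (preimage_t t ht j.hom U).le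
  let R : ∀ j : Over i, Subring Γ(D.obj j.left, D.map j.hom ⁻¹ᵁ W) := fun j =>
    (((t j.left)).appLE U _ (hle j)).hom.range
  have mono : ∀ {j k : Over i} (f : k ⟶ j) {x}, x ∈ R j → rs W f x ∈ R k := by
    rintro j k f _ ⟨r, rfl⟩
    refine ⟨r, ?_⟩
    have : ((t j.left)).appLE U _ (hle j) ≫ rs W f = ((t k.left)).appLE U _ (hle k) := by
      simp only [rs, Scheme.Hom.appLE_comp_appLE, ht]
    rw [← this]; rfl
  have dense : ∀ x, ∃ j, ∃ y ∈ R j, πs c W j y = x := by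
    intro x
    obtain ⟨r, rfl⟩ := h x
    refine ⟨Over.mk (𝟙 i), _, ⟨r, rfl⟩, ?_⟩
    simp only [πs, ← ConcreteCategory.comp_apply, Scheme.Hom.appLE_comp_appLE,
      Scheme.Hom.app_eq_appLE]
    rfl
  let j₀ : Over i := Over.mk (𝟙 i)
  have hft := HasRingHomProperty.appLE (P := @LocallyOfFiniteType) ((t i))
    inferInstance ⟨U, hU⟩ ⟨W, hW⟩ le_rfl
  letI := (((t i)).appLE U W le_rfl).hom.toAlgebra
  obtain ⟨gens, hgens⟩ := (hft : Algebra.FiniteType Γ(S, U) Γ(D.obj i, W)).out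
  have hid' : D.map j₀.hom ⁻¹ᵁ W ≤ W := by simp [j₀]
  let ι₀ : Γ(D.obj i, W) ⟶ Γ(D.obj j₀.left, D.map j₀.hom ⁻¹ᵁ W) :=
    (D.obj i).presheaf.map (homOfLE hid').op
  have gen : ∀ (k : Over i) (f : k ⟶ j₀),
      Subring.closure ((R k : Set _) ∪ rs W f '' (ι₀ '' (gens : Set Γ(D.obj i, W)))) = ⊤ := by
    intro k f
    refine eq_top_iff.2 fun x _ => ?_
    haveI := hcl k.hom
    obtain ⟨y, rfl⟩ := Scheme.Hom.app_surjective (D.map k.hom) W hW x
    have hy : y ∈ Algebra.adjoin Γ(S, U) (gens : Set Γ(D.obj i, W)) := hgens ▸ Algebra.mem_top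
    induction hy using Algebra.adjoin_induction with
    | mem g hg =>
      refine Subring.subset_closure (Or.inr ⟨ι₀ g, ⟨g, hg, rfl⟩, ?_⟩)
      have hf : f.left = k.hom := by simpa [j₀] using Over.w f
      simp [rs, ι₀, ← ConcreteCategory.comp_apply, hf, Scheme.Hom.app_eq_appLE]
    | algebraMap a =>
      refine Subring.subset_closure (Or.inl ⟨a, ?_⟩)
      rw [RingHom.algebraMap_toAlgebra]
      simp [W, ← ConcreteCategory.comp_apply, Scheme.Hom.app_eq_appLE, Scheme.Hom.appLE_comp_appLE,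
        ht]
    | add a b _ _ ha hb =>
      rw [map_add]; exact add_mem (ha (Subring.mem_top _)) (hb (Subring.mem_top _))
    | mul a b _ _ ha hb =>
      rw [map_mul]; exact mul_mem (ha (Subring.mem_top _)) (hb (Subring.mem_top _))
  obtain ⟨m, -, hm⟩ := exists_forall_eq_top hc hW R mono dense (gens.finite_toSet.image _) gen
  refine ⟨m.left, m.hom, fun k ψ => ?_⟩
  have h1 := RingHom.range_eq_top.1 (hm (Over.mk (ψ ≫ m.hom)) (Over.homMk ψ))
  have e : (t k) ⁻¹ᵁ U = D.map (ψ ≫ m.hom) ⁻¹ᵁ W := (preimage_t t ht _ U).symm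
  intro y
  obtain ⟨r, hr⟩ := h1 ((D.obj k).presheaf.map (homOfLE e.ge).op y)
  refine ⟨r, (ConcreteCategory.bijective_of_isIso ((D.obj k).presheaf.map (eqToHom e.symm).op)).1 ?_⟩
  refine Eq.trans ?_ hr
  simp [← ConcreteCategory.comp_apply, Scheme.Hom.app_eq_appLE]

/-- If the limit is a closed immersion over finitely many affine opens, so is a stage. -/
theorem exists_isClosedImmersion_restrict [∀ i, CompactSpace (D.obj i)]
    [∀ i, QuasiSeparatedSpace (D.obj i)] [QuasiSeparatedSpace S]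
    (hcl : ∀ {i j : I} (f : i ⟶ j), IsClosedImmersion (D.map f))
    [∀ i, LocallyOfFiniteType ((t i))] {i : I} (s : Finset S.affineOpens)
    (h₁ : ∀ U ∈ s, IsAffineOpen ((c.π.app i ≫ (t i)) ⁻¹ᵁ U))
    (h₂ : ∀ U ∈ s, Function.Surjective ((c.π.app i ≫ (t i)).app U)) :
    ∃ (j : I) (_ : j ⟶ i), ∀ (a : s) (k : I) (_ : k ⟶ j), IsClosedImmersion ((t k) ∣_ a.1.1) := by
  refine exists_forall_of_finite (fun (a : s) k => IsClosedImmersion ((t k) ∣_ a.1.1)) fun a => ?_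
  have hc' : IsCompact (((t i) ⁻¹ᵁ a.1.1 : (D.obj i).Opens) : Set (D.obj i)) :=
    QuasiCompact.isCompact_preimage (f := (t i)) _ a.1.1.2 a.1.2.isCompact
  obtain ⟨j, φ, hj⟩ := exists_isAffineOpen_base t ht hc a.1.1 hc' (h₁ _ a.2)
  have hj' := hj j (𝟙 _)
  have hsur : Function.Surjective ((c.π.app j ≫ (t j)).app a.1.1) := by
    exact surjective_app_congr (π_comp_t t ht i j) a.1.1 (h₂ _ a.2)
  obtain ⟨l, ψ, hl⟩ := exists_app_surjective t ht hc hcl a.1.1 a.1.2 hj' hsur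
  refine ⟨l, ψ ≫ φ, fun k χ => ?_⟩
  haveI : IsAffine a.1.1.toScheme := a.1.2
  haveI : IsAffine ((t k) ⁻¹ᵁ a.1.1).toScheme := hj k (χ ≫ ψ)
  refine IsClosedImmersion.of_surjective_of_isAffine _ ?_
  rw [morphismRestrict_appTop]
  intro y
  obtain ⟨z, hz⟩ := (ConcreteCategory.bijective_of_isIso ((D.obj k).presheaf.map
    (eqToHom (image_morphismRestrict_preimage ((t k)) a.1.1 ⊤)).op)).2 y
  have : Function.Surjective (((t k)).app (a.1.1.ι ''ᵁ ⊤)) := by
    rw [Scheme.Opens.ι_image_top]; exact hl k χ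
  obtain ⟨w, rfl⟩ := this z
  exact ⟨w, hz⟩

end

end Groth.Agent.LimLib
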