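import Groth.Agent.LimLib.Space
import Mathlib.AlgebraicGeometry.Morphisms.UniversallyOpen
import Mathlib.CategoryTheory.Limits.Shapes.Pullback.Connected

/-! Base change of cofiltered limits of schemes, and open projections. -/

set_option autoImplicit false
set_option backward.isDefEq.respectTransparency false
set_option backward.defeqAttrib.useBackward true

universe u

open CategoryTheory Limits AlgebraicGeometry

attribute [local instance] CategoryTheory.isConnected_of_hasTerminal

namespace Groth.Agent.LimLib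

noncomputable section

variable {I : Type u} [SmallCategory I] [IsCofiltered I] {D : I ⥤ Scheme.{u}}
  (c : Cone D) {i : I} {T : Scheme.{u}} (a : T ⟶ D.obj i)

variable (D) in
/-- The base change of the part of a diagram over `i` along `T ⟶ D.obj i`. -/
@[simps]
def bcDiagram : Over i ⥤ Scheme.{u} where
  obj j := pullback (D.map j.hom) a
  map {j k} f := pullback.map _ _ _ _ (D.map f.left) (𝟙 T) (𝟙 _)
    (by rw [Category.comp_id, ← D.map_comp, Over.w f]) (by simp)
  map_id j := by apply pullback.hom_ext <;> simp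
  map_comp {j k l} f g := by apply pullback.hom_ext <;> simp

/-- The base change of a cone. -/
@[simps]
def bcCone : Cone (bcDiagram D a) where
  pt := pullback (c.π.app i) a
  π :=
    { app j := pullback.map _ _ _ _ (c.π.app j.left) (𝟙 T) (𝟙 _) (by simp) (by simp)
      naturality j k f := by apply pullback.hom_ext <;> simp }

omit [IsCofiltered I] in
theorem isPullback_bcCone (j : Over i) :
    IsPullback ((bcCone c a).π.app j) (pullback.fst (c.π.app i) a)
      (pullback.fst (D.map j.hom) a) (c.π.app j.left) := by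
  refine (IsPullback.of_bot ?_ ?_ (IsPullback.of_hasPullback (D.map j.hom) a)).flip
  · simpa using IsPullback.of_hasPullback (c.π.app i) a
  · simp

variable {c} in
/-- The base change of a limit cone is a limit cone. -/
def isLimitBcCone (hc : IsLimit c) : IsLimit (bcCone c a) :=
  isLimitOfIsPullbackOfIsConnected
    (F := bcDiagram D a) (G := Over.forget i ⋙ D)
    { app := fun j => pullback.fst (D.map j.hom) a } (bcCone c a) (c.whisker (Over.forget i))
    { hom := pullback.fst (c.π.app i) a }
    (fun j => isPullback_bcCone c a j)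
    ((Functor.Initial.isLimitWhiskerEquiv (Over.forget i) c).symm hc)

variable [∀ {i j : I} (f : i ⟶ j), IsAffineHom (D.map f)]

instance {j k : Over i} (f : j ⟶ k) : IsAffineHom ((bcDiagram D a).map f) := by
  have : IsAffineHom ((bcDiagram D a).map f ≫ pullback.snd (D.map k.hom) a) := by
    have e : (bcDiagram D a).map f ≫ pullback.snd (D.map k.hom) a = pullback.snd (D.map j.hom) a := by
      simp
    rw [e]
    exact MorphismProperty.pullback_snd _ _ inferInstance
  have : IsAffineHom (pullback.snd (D.map k.hom) a) := MorphismProperty.pullback_snd _ _ inferInstance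
  exact .of_comp _ (pullback.snd (D.map k.hom) a)

variable {c} (hc : IsLimit c)
include hc

omit a in
/-- A projection is open if the transition maps into its target are. -/
theorem isOpenMap_π (hs : ∀ (j : I) (_ : j ⟶ i), Surjective (c.π.app j))
    (h : ∀ (j : I) (φ : j ⟶ i), IsOpenMap ⇑(D.map φ)) : IsOpenMap ⇑(c.π.app i) := by
  rw [(isBasis_preimage_isAffineOpen D c hc).isOpenMap_iff]
  rintro _ ⟨_, ⟨k, V, -, rfl⟩, rfl⟩
  let m := IsCofiltered.min i k
  have e : (⇑(c.π.app i) '' ⇑(c.π.app k) ⁻¹' (V : Set (D.obj k)) : Set (D.obj i)) =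
      ⇑(D.map (IsCofiltered.minToLeft i k)) ''
        (⇑(D.map (IsCofiltered.minToRight i k)) ⁻¹' (V : Set (D.obj k))) := by
    ext x
    constructor
    · rintro ⟨s, hs', rfl⟩
      refine ⟨c.π.app m s, ?_, by rw [← Scheme.Hom.comp_apply, c.w]; rfl⟩
      show D.map _ (c.π.app m s) ∈ V
      rw [← Scheme.Hom.comp_apply, c.w]
      exact hs'
    · rintro ⟨y, hy, rfl⟩
      obtain ⟨s, rfl⟩ := (hs m (IsCofiltered.minToLeft i k)).surj y
      refine ⟨s, ?_, by rw [← Scheme.Hom.comp_apply, c.w]; rfl⟩
      show c.π.app k s ∈ V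
      rw [← c.w (IsCofiltered.minToRight i k), Scheme.Hom.comp_apply]
      exact hy
  change IsOpen (⇑(c.π.app i) '' ⇑(c.π.app k) ⁻¹' (V : Set (D.obj k)))
  rw [e]
  exact h _ _ _ (V.2.preimage (D.map _).continuous)

omit hc a [∀ {i j : I} (f : i ⟶ j), IsAffineHom (D.map f)] [IsCofiltered I] in
theorem isOpenMap_map_of_isOpenMap_π {j : I} (φ : j ⟶ i) [Surjective (c.π.app j)]
    (h : IsOpenMap ⇑(c.π.app i)) : IsOpenMap ⇑(D.map φ) := by
  intro W hW
  have e : (⇑(D.map φ) '' W : Set (D.obj i)) = ⇑(c.π.app i) '' (⇑(c.π.app j) ⁻¹' W) := by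
    rw [← c.w φ]
    ext x
    constructor
    · rintro ⟨y, hy, rfl⟩
      obtain ⟨s, rfl⟩ := (c.π.app j).surjective y
      exact ⟨s, hy, rfl⟩
    · rintro ⟨s, hs, rfl⟩
      exact ⟨_, hs, rfl⟩
  rw [e]
  exact h _ (hW.preimage (c.π.app j).continuous)

omit a in
/-- A projection is universally open if the transition maps into its target are. -/
theorem universallyOpen_π (hs : ∀ (j : I) (_ : j ⟶ i), Surjective (c.π.app j))
    (h : ∀ (j : I) (φ : j ⟶ i), UniversallyOpen (D.map φ)) : UniversallyOpen (c.π.app i) := by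
  refine ⟨fun {X' Y'} i₁ i₂ f' hf => ?_⟩
  have key : IsOpenMap ⇑(pullback.snd (c.π.app i) i₂) := by
    let top : Over i := Over.mk (𝟙 i)
    have : IsIso (pullback.snd (D.map top.hom) i₂) := by
      have : IsIso (D.map top.hom) := by simp [top]; infer_instance
      exact MorphismProperty.pullback_snd (P := MorphismProperty.isomorphisms Scheme) _ _ this
    have h1 : IsOpenMap ⇑((bcCone c i₂).π.app top) := by
      refine isOpenMap_π (isLimitBcCone i₂ hc) (fun k _ => ?_) fun k φ => ?_
      · exact MorphismProperty.of_isPullback (P := @Surjective)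
          (isPullback_bcCone c i₂ k).flip (hs k.left k.hom)
      · have e : (bcDiagram D i₂).map φ =
            pullback.snd (D.map k.hom) i₂ ≫ inv (pullback.snd (D.map top.hom) i₂) := by
          rw [IsIso.eq_comp_inv]
          simp
        rw [e]
        haveI := h k.left k.hom
        exact Scheme.Hom.isOpenMap _
    have e : pullback.snd (c.π.app i) i₂ =
        (bcCone c i₂).π.app top ≫ pullback.snd (D.map top.hom) i₂ := by simp [top]
    rw [e, Scheme.Hom.comp_base, TopCat.coe_comp]
    exact (Scheme.Hom.isOpenMap (pullback.snd (D.map top.hom) i₂)).comp h1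
  show IsOpenMap ⇑f'
  rw [← hf.flip.isoPullback_hom_snd, Scheme.Hom.comp_base, TopCat.coe_comp]
  exact key.comp (Scheme.Hom.isOpenMap hf.flip.isoPullback.hom)

omit hc [∀ {i j : I} (f : i ⟶ j), IsAffineHom (D.map f)] [IsCofiltered I] a in
theorem universallyOpen_map_of_π {j : I} (φ : j ⟶ i) [Surjective (c.π.app j)]
    (h : UniversallyOpen (c.π.app i)) : UniversallyOpen (D.map φ) := by
  refine ⟨fun {X' Y'} i₁ i₂ f' hf => ?_⟩
  show IsOpenMap ⇑f'
  rw [← hf.flip.isoPullback_hom_snd, Scheme.Hom.comp_base, TopCat.coe_comp]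
  refine IsOpenMap.comp ?_ (Scheme.Hom.isOpenMap hf.flip.isoPullback.hom)
  intro W hW
  let l := (bcCone c i₂).π.app (Over.mk φ)
  have hl : Function.Surjective ⇑l := (MorphismProperty.of_isPullback (P := @Surjective)
    (isPullback_bcCone c i₂ (Over.mk φ)).flip ‹_›).surj
  have e : l ≫ pullback.snd (D.map φ) i₂ = pullback.snd (c.π.app i) i₂ := by simp [l]
  rw [← Set.image_preimage_eq (f := ⇑l) W hl, Set.image_image]
  have e' : (fun x => (pullback.snd (D.map φ) i₂) (l x)) = ⇑(pullback.snd (c.π.app i) i₂) := by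
    rw [← e]; rfl
  rw [e']
  exact Scheme.Hom.isOpenMap _ _ (hW.preimage l.continuous)

end

end Groth.Agent.LimLib
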