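import Groth.Agent.LimLib.Space
import Groth.Agent.SpecSp.Limit
import Groth.Prelude.Def_ProCons

/-! Constructibly closed subsets and limits of schemes with affine transition maps. -/

set_option autoImplicit false
set_option backward.isDefEq.respectTransparency false
set_option backward.defeqAttrib.useBackward true

universe u

open CategoryTheory Limits AlgebraicGeometry TopologicalSpace Topology Set
open Groth.Agent.SpecSp

namespace Groth.Agent.LimLib

noncomputable section

variable {X Y : Scheme.{u}}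

theorem spectralSpace_scheme [CompactSpace X] [QuasiSeparatedSpace X] : SpectralSpace X := ⟨⟩

theorem spectralSpace_opens {V : X.Opens} (hV : IsAffineOpen V) : SpectralSpace V.toScheme :=
  have : IsAffine V.toScheme := hV
  spectralSpace_scheme

/-- Subsets closed in the constructible topology of every affine open. -/
def LCClosed (E : Set X) : Prop :=
  ∀ V : X.Opens, IsAffineOpen V →
    IsClosed[constructibleTopology V.toScheme] (⇑V.ι ⁻¹' E)

theorem preimage_preimage_eq {Z : Scheme.{u}} {f : X ⟶ Y} {g : Y ⟶ Z} {k : X ⟶ Z} (h : f ≫ g = k)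
    (E : Set Z) : ⇑f ⁻¹' (⇑g ⁻¹' E) = ⇑k ⁻¹' E := by
  subst h
  ext x
  simp

theorem isSpectralMap_of_affine (f : X ⟶ Y) [IsAffine X] [IsAffine Y] : IsSpectralMap ⇑f :=
  quasiCompact_iff_isSpectralMap.1 inferInstance

theorem isClosed_cons_preimage_affine (f : X ⟶ Y) [IsAffine X] [IsAffine Y] {E : Set Y}
    (hE : IsClosed[constructibleTopology Y] E) : IsClosed[constructibleTopology X] (⇑f ⁻¹' E) :=
  have := spectralSpace_scheme (X := X)
  have := spectralSpace_scheme (X := Y)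
  isClosed_cons_preimage (isSpectralMap_of_affine f) hE

theorem lcClosed_of_forall_exists {E : Set X}
    (h : ∀ x : X, ∃ W : X.Opens, x ∈ W ∧ IsAffineOpen W ∧
      IsClosed[constructibleTopology W.toScheme] (⇑W.ι ⁻¹' E)) : LCClosed E := by
  intro V hV
  have (x : V) : ∃ W' : X.Opens, (x : X) ∈ W' ∧ W' ≤ V ∧ IsAffineOpen W' ∧
      IsClosed[constructibleTopology W'.toScheme] (⇑W'.ι ⁻¹' E) := by
    obtain ⟨W, hxW, hW, hEW⟩ := h x
    obtain ⟨_, ⟨W', hW', rfl⟩, hx', hsub⟩ :=
      X.isBasis_affineOpens.exists_subset_of_mem_open (⟨x.2, hxW⟩ : (x : X) ∈ V ⊓ W) (V ⊓ W).2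
    have : IsAffine (Scheme.Opens.toScheme W') := hW'
    have : IsAffine W.toScheme := hW
    refine ⟨W', hx', fun y hy => (hsub hy).1, hW', ?_⟩
    have := isClosed_cons_preimage_affine (X.homOfLE (fun y hy => (hsub hy).2 : W' ≤ W)) hEW
    rwa [preimage_preimage_eq (X.homOfLE_ι _)] at this
  choose W hxW hWV hW hEW using this
  obtain ⟨t, ht⟩ := hV.isCompact.elim_finite_subcover (fun x : V => ((W x : X.Opens) : Set X))
    (fun x => (W x).2) fun y hy => mem_iUnion.2 ⟨⟨y, hy⟩, hxW _⟩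
  have : IsAffine V.toScheme := hV
  have e : (⇑V.ι ⁻¹' E) = ⋃ x ∈ t, ⇑(X.homOfLE (hWV x)) '' (⇑(W x).ι ⁻¹' E) := by
    ext ⟨y, hy⟩
    simp only [mem_preimage, mem_iUnion, mem_image]
    refine ⟨fun hyE => ?_, ?_⟩
    · obtain ⟨x, hx, hyx⟩ := mem_iUnion₂.1 (ht hy)
      exact ⟨x, hx, ⟨y, hyx⟩, hyE, Subtype.ext (by simp)⟩
    · rintro ⟨x, -, ⟨z, hz⟩, hzE, he⟩
      have : z = y := by simpa using congrArg Subtype.val he
      exact this ▸ hzE
  rw [e]
  refine @Set.Finite.isClosed_biUnion _ _ (constructibleTopology V.toScheme) _ _ t.finite_toSet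
    fun x _ => ?_
  have : IsAffine (W x).toScheme := hW x
  have := spectralSpace_scheme (X := (W x).toScheme)
  have := spectralSpace_scheme (X := V.toScheme)
  exact isClosed_cons_image (isSpectralMap_of_affine _) (hEW x)

theorem LCClosed.preimage (f : X ⟶ Y) {E : Set Y} (hE : LCClosed E) : LCClosed (⇑f ⁻¹' E) := by
  refine lcClosed_of_forall_exists fun x => ?_
  obtain ⟨_, ⟨V, hV, rfl⟩, hxV, -⟩ :=
    Y.isBasis_affineOpens.exists_subset_of_mem_open (Set.mem_univ (f x)) isOpen_univ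
  obtain ⟨_, ⟨W, hW, rfl⟩, hxW, hWV⟩ :=
    X.isBasis_affineOpens.exists_subset_of_mem_open (show x ∈ f ⁻¹ᵁ V from hxV) (f ⁻¹ᵁ V).2
  have : IsAffine (Scheme.Opens.toScheme W) := hW
  have : IsAffine (Scheme.Opens.toScheme V) := hV
  refine ⟨W, hxW, hW, ?_⟩
  have := isClosed_cons_preimage_affine (f.resLE V W hWV) (hE V hV)
  rw [preimage_preimage_eq (Scheme.Hom.resLE_comp_ι f hWV)] at this
  rwa [preimage_preimage_eq rfl]

theorem LCClosed.inter {E F : Set X} (hE : LCClosed E) (hF : LCClosed F) : LCClosed (E ∩ F) :=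
  fun V hV => by
    let := constructibleTopology V.toScheme
    exact IsClosed.inter (hE V hV) (hF V hV)

theorem LCClosed.isClosed_cons [IsAffine X] {E : Set X} (hE : LCClosed E) :
    IsClosed[constructibleTopology X] E := by
  have h := hE ⊤ (isAffineOpen_top X)
  have : IsAffine (⊤ : X.Opens).toScheme := isAffineOpen_top X
  have := isClosed_cons_preimage_affine X.topIso.inv h
  rw [preimage_preimage_eq (g := Scheme.Opens.ι ⊤) (k := 𝟙 X) X.topIso.inv_hom_id] at this
  simpa using this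

theorem lcClosed_of_isConstructible {E : Set X} (hE : IsConstructible E) : LCClosed E :=
  fun V hV => by
    have := spectralSpace_opens hV
    exact (isClopen_cons_of_isConstructible (V.ι.isConstructible_preimage hE)).1

theorem lcClosed_of_isClosed {E : Set X} (hE : IsClosed E) : LCClosed E :=
  fun V hV => by
    have := spectralSpace_opens hV
    exact SpecSp.isClosed_cons (hE.preimage V.ι.continuous)

theorem lcClosed_of_isOpen_isRetrocompact {E : Set X} (ho : IsOpen E) (hr : IsRetrocompact E) :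
    LCClosed E :=
  lcClosed_of_isConstructible (hr.isConstructible ho)

theorem lcClosed_of_isProConstructible {E : Set X} (hE : ProCons.IsProConstructible E) :
    LCClosed E := by
  refine lcClosed_of_forall_exists fun x => ?_
  obtain ⟨U, hU, hxU, S, hS, hES⟩ := hE x
  obtain ⟨_, ⟨W, hW, rfl⟩, hxW, hWU⟩ :=
    X.isBasis_affineOpens.exists_subset_of_mem_open hxU hU
  refine ⟨W, hxW, hW, ?_⟩
  have := spectralSpace_opens hW
  let g : Scheme.Opens.toScheme W → U := fun y => ⟨y.1, hWU y.2⟩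
  have hg : IsOpenEmbedding g :=
    .of_comp _ hU.isOpenEmbedding_subtypeVal W.2.isOpenEmbedding_subtypeVal
  have e : (⇑(Scheme.Opens.ι W) ⁻¹' E) = ⋂ T ∈ S, g ⁻¹' T := by
    change g ⁻¹' (Subtype.val ⁻¹' E) = _
    rw [hES, Set.preimage_sInter]
  rw [e]
  refine @isClosed_biInter _ _ (constructibleTopology (Scheme.Opens.toScheme W)) _ _ fun T hT => ?_
  exact (isClopen_cons_of_isConstructible
    ((hS T hT).preimage_of_isOpenEmbedding hg).isConstructible).1

theorem isProConstructible_compl {E : Set X} (hE : ProCons.IsIndConstructible E) :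
    ProCons.IsProConstructible Eᶜ := by
  intro x
  obtain ⟨U, hU, hxU, S, hS, hES⟩ := hE x
  refine ⟨U, hU, hxU, compl '' S, ?_, ?_⟩
  · rintro _ ⟨T, hT, rfl⟩
    intro y
    obtain ⟨V, hV, hVo, hTV⟩ := hS T hT y
    exact ⟨V, hV, hVo, hTV.compl⟩
  · rw [Set.preimage_compl, hES, Set.compl_sUnion]

variable {I : Type u} [SmallCategory I] [IsCofiltered I] {D : I ⥤ Scheme.{u}}
  [∀ {i j : I} (f : i ⟶ j), IsAffineHom (D.map f)] {c : Cone D} (hc : IsLimit c)

include hc

/-- A compatible system of nonempty constructibly closed subsets over a quasi-compact stage has a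
point in the limit. -/
theorem exists_mem_of_lcClosed {i₀ : I} [CompactSpace (D.obj i₀)] (Z : ∀ j : Over i₀, Set (D.obj j.left))
    (hne : ∀ j, (Z j).Nonempty) (hcl : ∀ j, LCClosed (Z j))
    (hm : ∀ {j k : Over i₀} (f : j ⟶ k), MapsTo (D.map f.left) (Z j) (Z k)) :
    ∃ s : c.pt, ∀ j : Over i₀, c.π.app j.left s ∈ Z j := by
  let 𝒰 := (D.obj i₀).affineCover.finiteSubcover
  obtain ⟨a, ha⟩ : ∃ a : 𝒰.I₀, ∀ j : Over i₀,
      (Z j ∩ ⇑(D.map j.hom) ⁻¹' Set.range (𝒰.f a)).Nonempty := by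
    by_contra! H
    choose j hj using H
    classical
    obtain ⟨k, hk⟩ := IsCofiltered.inf_objs_exists (Finset.univ.image j)
    obtain ⟨z, hz⟩ := hne k
    obtain ⟨a, y, hy⟩ := 𝒰.exists_eq (D.map k.hom z)
    obtain ⟨φ⟩ := hk (Finset.mem_image_of_mem j (Finset.mem_univ a))
    refine (hj a).le ⟨hm φ hz, y, hy.trans ?_⟩
    rw [← Over.w φ, D.map_comp, Scheme.Hom.comp_apply]
  let U : (D.obj i₀).Opens := (𝒰.f a).opensRange
  have : IsAffine (𝒰.X a) := inferInstanceAs (IsAffine (Spec _))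
  have hU : IsAffineOpen U := isAffineOpen_opensRange _
  let F := opensDiagram D i₀ U ⋙ Scheme.forgetToTop
  have hA (j : Over i₀) : IsAffine ((opensDiagram D i₀ U).obj j) := hU.preimage (D.map j.hom)
  obtain ⟨hlim⟩ := isLimit_forgetToTop (isLimitOpensCone D c hc i₀ U)
  obtain ⟨s, hs⟩ := exists_mem_of_nonempty (F := F)
    (fun j => spectralSpace_scheme (X := (opensDiagram D i₀ U).obj j))
    (fun f => isSpectralMap_of_affine ((opensDiagram D i₀ U).map f)) hlim
    (Z := fun j => ⇑(D.map j.hom ⁻¹ᵁ U).ι ⁻¹' Z j)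
    (fun j => by
      obtain ⟨z, hz, hzU⟩ := ha j
      exact ⟨⟨z, hzU⟩, hz⟩)
    (fun j => hcl j _ (hU.preimage (D.map j.hom)))
    (fun {j k} f x hx => by
      have : ((D.map k.hom ⁻¹ᵁ U).ι ((opensDiagram D i₀ U).map f x)) =
          D.map f.left ((D.map j.hom ⁻¹ᵁ U).ι x) := by
        simp [← Scheme.Hom.comp_apply]
      rw [mem_preimage] at hx ⊢
      exact (congrArg (· ∈ Z k) this).mpr (hm f hx))
  refine ⟨(c.π.app i₀ ⁻¹ᵁ U).ι s, fun j => ?_⟩
  have := hs j
  rw [mem_preimage] at this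
  convert this using 1
  exact congr($(Scheme.Hom.resLE_comp_ι (U := D.map j.hom ⁻¹ᵁ U) (V := c.π.app i₀ ⁻¹ᵁ U)
    (c.π.app j.left) (by rw [← Scheme.Hom.comp_preimage, c.w])) s).symm

/-- A constructibly closed subset of a quasi-compact stage with empty preimage in the limit has
empty preimage at a finite stage. -/
theorem exists_preimage_eq_empty_lc {i : I} [CompactSpace (D.obj i)] {C : Set (D.obj i)}
    (hC : LCClosed C) (h : (⇑(c.π.app i) ⁻¹' C : Set c.pt) = ∅) :
    ∃ (j : I) (φ : j ⟶ i), ⇑(D.map φ) ⁻¹' C = ∅ := by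
  by_contra! H
  obtain ⟨s, hs⟩ := exists_mem_of_lcClosed hc (fun j : Over i => ⇑(D.map j.hom) ⁻¹' C)
    (fun j => H j.left j.hom) (fun j => hC.preimage _)
    (fun {j k} f x hx => by
      simpa only [mem_preimage, ← Scheme.Hom.comp_apply, ← D.map_comp, Over.w] using hx)
  have := hs (Over.mk (𝟙 i))
  simp only [Over.mk_left, Over.mk_hom, mem_preimage, CategoryTheory.Functor.map_id] at this
  exact h.le (by simpa using this)

theorem exists_preimage_subset {i : I} [CompactSpace (D.obj i)] {A B : Set (D.obj i)}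
    (hA : LCClosed A) (hB : LCClosed Bᶜ)
    (h : (⇑(c.π.app i) ⁻¹' A : Set c.pt) ⊆ ⇑(c.π.app i) ⁻¹' B) :
    ∃ (j : I) (φ : j ⟶ i), ⇑(D.map φ) ⁻¹' A ⊆ ⇑(D.map φ) ⁻¹' B := by
  obtain ⟨j, φ, hj⟩ := exists_preimage_eq_empty_lc hc (hA.inter hB)
    (Set.eq_empty_of_forall_notMem fun s hs => hs.2 (h hs.1))
  exact ⟨j, φ, fun x hx => by_contra fun hx' => hj.le (show x ∈ _ from ⟨hx, hx'⟩)⟩

theorem exists_preimage_eq_of_isConstructible {i : I} [CompactSpace (D.obj i)]
    {A B : Set (D.obj i)} (hA : IsConstructible A) (hB : IsConstructible B)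
    (h : (⇑(c.π.app i) ⁻¹' A : Set c.pt) = ⇑(c.π.app i) ⁻¹' B) :
    ∃ (j : I) (φ : j ⟶ i), ⇑(D.map φ) ⁻¹' A = ⇑(D.map φ) ⁻¹' B := by
  obtain ⟨j, φ, hj⟩ := exists_preimage_eq_empty_lc hc
    (lcClosed_of_isConstructible ((hA.sdiff hB).union (hB.sdiff hA)))
    (Set.eq_empty_of_forall_notMem fun s hs => by
      have := Set.ext_iff.1 h s
      simp only [mem_preimage, mem_union, mem_sdiff] at this hs
      tauto)
  refine ⟨j, φ, Set.ext fun x => ?_⟩
  have : x ∉ ⇑(D.map φ) ⁻¹' (A \ B ∪ B \ A) := fun hx => hj.le hx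
  simp only [mem_preimage, mem_union, mem_sdiff] at this ⊢
  tauto

omit hc

end

end Groth.Agent.LimLib
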