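import Groth.Agent.LimLib.Constr

/-! Descending topological properties of constructible sets along affine limits. -/

set_option autoImplicit false
set_option backward.isDefEq.respectTransparency false
set_option backward.defeqAttrib.useBackward true

universe u

open CategoryTheory Limits AlgebraicGeometry TopologicalSpace Topology Set
open Groth.Agent.SpecSp

namespace Groth.Agent.LimLib

noncomputable section

variable {I : Type u} [SmallCategory I] [IsCofiltered I] {D : I ⥤ Scheme.{u}}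
  [∀ {i j : I} (f : i ⟶ j), IsAffineHom (D.map f)] {c : Cone D} (hc : IsLimit c)

include hc

theorem exists_isConstructible_preimage_eq (i₀ : I) [CompactSpace (D.obj i₀)]
    [QuasiSeparatedSpace (D.obj i₀)] {Z : Set c.pt} (hZ : IsConstructible Z) :
    ∃ (i : I) (_ : i ⟶ i₀) (Zi : Set (D.obj i)),
      IsConstructible Zi ∧ (⇑(c.π.app i) ⁻¹' Zi : Set c.pt) = Z := by
  let G := Over.forget i₀ ⋙ D
  have {j k : Over i₀} (f : j ⟶ k) : IsAffineHom (G.map f) :=
    inferInstanceAs (IsAffineHom (D.map f.left))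
  have hG := (Functor.Initial.isLimitWhiskerEquiv (Over.forget i₀) c).symm hc
  obtain ⟨hlim⟩ := isLimit_forgetToTop hG
  have hsp (j : Over i₀) : SpectralSpace (G.obj j) :=
    have : CompactSpace (D.obj j.left) :=
      QuasiCompact.compactSpace_of_compactSpace (D.map j.hom)
    have : QuasiSeparatedSpace (D.obj j.left) :=
      quasiSeparatedSpace_of_quasiSeparated (D.map j.hom)
    spectralSpace_scheme (X := D.obj j.left)
  obtain ⟨j, Zj, hZj, e⟩ := exists_eq_preimage_of_isConstructible (F := G ⋙ Scheme.forgetToTop) hsp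
    (fun {j k} f => (D.map f.left).isSpectralMap) hlim hZ
  exact ⟨j.left, j.hom, Zj, hZj, e⟩

/-- A compact open of the limit comes from a compact open at a stage over a given one. -/
theorem exists_preimage_eq_over {i : I} (U : c.pt.Opens) (hU : IsCompact (U : Set c.pt)) :
    ∃ (j : I) (_ : j ⟶ i) (V : (D.obj j).Opens),
      IsCompact (V : Set (D.obj j)) ∧ c.π.app j ⁻¹ᵁ V = U := by
  obtain ⟨j, V, hV, e⟩ := exists_preimage_eq D c hc U hU
  refine ⟨IsCofiltered.min i j, IsCofiltered.minToLeft i j,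
    D.map (IsCofiltered.minToRight i j) ⁻¹ᵁ V,
    QuasiCompact.isCompact_preimage (f := D.map (IsCofiltered.minToRight i j)) _ V.2 hV, ?_⟩
  rw [← Scheme.Hom.comp_preimage, c.w, e]

/-- Openness of a constructible set descends to a stage, for affine schemes. -/
theorem exists_isOpen_of_isAffine [∀ i, IsAffine (D.obj i)] {i : I} {E : Set (D.obj i)}
    (hE : IsConstructible E) (h : IsOpen (⇑(c.π.app i) ⁻¹' E : Set c.pt)) :
    ∃ (j : I) (φ : j ⟶ i), IsOpen (⇑(D.map φ) ⁻¹' E) := by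
  have := Scheme.isAffine_of_isLimit _ hc
  have := spectralSpace_scheme (X := c.pt)
  let S : Set c.pt := ⇑(c.π.app i) ⁻¹' E
  have hSc : IsConstructible S := (c.π.app i).isConstructible_preimage hE
  have hc' : IsCompact S :=
    SpecSp.isCompact_of_isClosed_cons (isClopen_cons_of_isConstructible hSc).1
  obtain ⟨j, φ, V, hV, e⟩ := exists_preimage_eq_over hc (i := i) ⟨_, h⟩ hc'
  have := spectralSpace_scheme (X := D.obj j)
  obtain ⟨k, ψ, hk⟩ := exists_preimage_eq_of_isConstructible hc (hV.isConstructible V.2)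
    ((D.map φ).isConstructible_preimage hE)
    ((congrArg Opens.carrier e).trans (preimage_preimage_eq (c.w φ) E).symm)
  refine ⟨k, ψ ≫ φ, ?_⟩
  rw [D.map_comp, ← preimage_preimage_eq rfl, ← hk]
  exact V.2.preimage (D.map ψ).continuous

/-- Local closedness of a constructible set descends to a stage, for affine schemes. -/
theorem exists_isLocallyClosed_of_isAffine [∀ i, IsAffine (D.obj i)] {i : I} {E : Set (D.obj i)}
    (hE : IsConstructible E) (h : IsLocallyClosed (⇑(c.π.app i) ⁻¹' E : Set c.pt)) :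
    ∃ (j : I) (φ : j ⟶ i), IsLocallyClosed (⇑(D.map φ) ⁻¹' E) := by
  have := Scheme.isAffine_of_isLimit _ hc
  have := spectralSpace_scheme (X := c.pt)
  let S : Set c.pt := ⇑(c.π.app i) ⁻¹' E
  have hSc : IsConstructible S := (c.π.app i).isConstructible_preimage hE
  have hS : IsCompact S := SpecSp.isCompact_of_isClosed_cons (isClopen_cons_of_isConstructible hSc).1
  obtain ⟨W, hWc, hWo, hSW, hWU⟩ := PrespectralSpace.exists_isCompact_and_isOpen_between hS
    (isLocallyClosed_iff_isOpen_coborder.1 h) subset_coborder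
  have hd : W \ S = W ∩ (closure S)ᶜ := by
    ext x
    refine ⟨fun hx => ⟨hx.1, fun hx' => hx.2 ?_⟩, fun hx => ⟨hx.1, fun hx' => hx.2 (subset_closure hx')⟩⟩
    have := coborder_inter_closure (s := S)
    exact this.le ⟨hWU hx.1, hx'⟩
  have hdo : IsOpen (W \ S) := hd ▸ hWo.inter isClosed_closure.isOpen_compl
  have hdc : IsCompact (W \ S) := SpecSp.isCompact_of_isClosed_cons
    (isClopen_cons_of_isConstructible ((hWc.isConstructible hWo).sdiff hSc)).1
  obtain ⟨j₁, φ₁, V₁, hV₁, e₁⟩ := exists_preimage_eq_over hc (i := i) ⟨W, hWo⟩ hWc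
  obtain ⟨j, φ, V₂, hV₂, e₂⟩ := exists_preimage_eq_over hc (i := j₁) ⟨_, hdo⟩ hdc
  have := spectralSpace_scheme (X := D.obj j)
  let V := D.map φ ⁻¹ᵁ V₁
  have hV : IsCompact (V : Set (D.obj j)) :=
    QuasiCompact.isCompact_preimage (f := D.map φ) _ V₁.2 hV₁
  have eV : (⇑(c.π.app j) ⁻¹' (V : Set (D.obj j)) : Set c.pt) = W :=
    (preimage_preimage_eq (c.w φ) _).trans (congrArg Opens.carrier e₁)
  have e2 : (⇑(c.π.app j) ⁻¹' (V₂ : Set (D.obj j)) : Set c.pt) = W \ S := congrArg Opens.carrier e₂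
  obtain ⟨k, ψ, hk⟩ := exists_preimage_eq_of_isConstructible hc
    ((hV.isConstructible V.2).sdiff (hV₂.isConstructible V₂.2))
    ((D.map (φ ≫ φ₁)).isConstructible_preimage hE)
    (by
      refine Eq.trans ?_ (preimage_preimage_eq (c.w (φ ≫ φ₁)) E).symm
      rw [Set.preimage_sdiff, eV, e2, sdiff_sdiff_right_self]
      exact inf_eq_right.2 hSW)
  refine ⟨k, ψ ≫ φ ≫ φ₁, ?_⟩
  rw [D.map_comp, ← preimage_preimage_eq rfl, ← hk]
  exact (V.2.isLocallyClosed.inter V₂.2.isClosed_compl.isLocallyClosed).preimage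
    (D.map ψ).continuous

/-- Descent of a local property of the preimage of a constructible set. -/
theorem exists_descend_local (P : ∀ {X : Scheme.{u}}, Set X → Prop)
    (hlocal : ∀ {X : Scheme.{u}} {α : Type u} (O : α → X.Opens), IsOpenCover O → ∀ S : Set X,
      (∀ a, P (⇑(O a).ι ⁻¹' S)) → P S)
    (hpre : ∀ {X Y : Scheme.{u}} (f : X ⟶ Y) (S : Set Y), P S → P (⇑f ⁻¹' S))
    (haff : ∀ {K : Type u} [SmallCategory K] [IsCofiltered K] (D' : K ⥤ Scheme.{u})
      [∀ {i j : K} (f : i ⟶ j), IsAffineHom (D'.map f)] [∀ k, IsAffine (D'.obj k)] (c' : Cone D')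
      (_ : IsLimit c') {k : K} {E : Set (D'.obj k)}, IsConstructible E →
      P (X := c'.pt) (⇑(c'.π.app k) ⁻¹' E) → ∃ (l : K) (φ : l ⟶ k), P (⇑(D'.map φ) ⁻¹' E))
    {i : I} [CompactSpace (D.obj i)] {E : Set (D.obj i)} (hE : IsConstructible E)
    (h : P (X := c.pt) (⇑(c.π.app i) ⁻¹' E)) : ∃ (j : I) (φ : j ⟶ i), P (⇑(D.map φ) ⁻¹' E) := by
  let 𝒰 := (D.obj i).affineCover.finiteSubcover
  have (a : 𝒰.I₀) : IsAffine (𝒰.X a) := inferInstanceAs (IsAffine (Spec _))
  let U (a : 𝒰.I₀) : (D.obj i).Opens := (𝒰.f a).opensRange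
  have hU (a : 𝒰.I₀) : IsAffineOpen (U a) := isAffineOpen_opensRange _
  have key (a : 𝒰.I₀) : ∃ (j : Over i),
      P (⇑(D.map j.hom ⁻¹ᵁ U a).ι ⁻¹' (⇑(D.map j.hom) ⁻¹' E)) := by
    have (j : Over i) : IsAffine ((opensDiagram D i (U a)).obj j) := (hU a).preimage (D.map j.hom)
    let E₀ : Set ((opensDiagram D i (U a)).obj (Over.mk (𝟙 i))) :=
      ⇑((D.map (𝟙 i) ⁻¹ᵁ U a).ι ≫ D.map (𝟙 i)) ⁻¹' E
    have e : ((opensCone D c i (U a)).π.app (Over.mk (𝟙 i))) ≫
        (D.map (𝟙 i) ⁻¹ᵁ U a).ι ≫ D.map (𝟙 i) = (c.π.app i ⁻¹ᵁ U a).ι ≫ c.π.app i := by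
      simp
    obtain ⟨l, φ, hl⟩ := haff (opensDiagram D i (U a)) (opensCone D c i (U a))
      (isLimitOpensCone D c hc i (U a)) (k := Over.mk (𝟙 i)) (E := E₀)
      (((D.map (𝟙 i) ⁻¹ᵁ U a).ι ≫ D.map (𝟙 i)).isConstructible_preimage hE)
      (by
        have h' := hpre (c.π.app i ⁻¹ᵁ U a).ι _ h
        refine (congrArg P ?_).mpr h'
        exact (preimage_preimage_eq e E).trans (preimage_preimage_eq rfl E).symm)
    refine ⟨l, ?_⟩
    have e' : (opensDiagram D i (U a)).map φ ≫ (D.map (𝟙 i) ⁻¹ᵁ U a).ι ≫ D.map (𝟙 i) =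
        (D.map l.hom ⁻¹ᵁ U a).ι ≫ D.map l.hom := by
      have hw : φ.left ≫ 𝟙 i = l.hom := Over.w φ
      simp [← hw]
    refine (congrArg P ?_).mpr hl
    exact (preimage_preimage_eq rfl E).trans (preimage_preimage_eq e' E).symm
  choose l hl using key
  classical
  obtain ⟨k, hk⟩ := IsCofiltered.inf_objs_exists (insert (Over.mk (𝟙 i)) (Finset.univ.image l))
  refine ⟨k.left, k.hom, hlocal (fun a => D.map k.hom ⁻¹ᵁ U a) ?_ _ fun a => ?_⟩
  · exact .comap (𝒰.isOpenCover_opensRange) (D.map k.hom).base.1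
  · obtain ⟨φ⟩ := hk (Finset.mem_insert_of_mem (Finset.mem_image_of_mem l (Finset.mem_univ a)))
    have := hpre ((D.map φ.left).resLE (D.map (l a).hom ⁻¹ᵁ U a) (D.map k.hom ⁻¹ᵁ U a)
      (by rw [← Scheme.Hom.comp_preimage, ← D.map_comp, Over.w φ])) _ (hl a)
    rwa [preimage_preimage_eq (Scheme.Hom.resLE_comp_ι _ _), ← preimage_preimage_eq rfl,
      preimage_preimage_eq (k := D.map k.hom) (by rw [← D.map_comp, Over.w φ])] at this

theorem exists_isOpen_descend {i : I} [CompactSpace (D.obj i)] {E : Set (D.obj i)}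
    (hE : IsConstructible E) (h : IsOpen (⇑(c.π.app i) ⁻¹' E : Set c.pt)) :
    ∃ (j : I) (φ : j ⟶ i), IsOpen (⇑(D.map φ) ⁻¹' E) :=
  exists_descend_local hc (P := fun {X} (S : Set X) => IsOpen S)
    (fun O hO S hS => hO.isOpen_iff_coe_preimage.2 hS)
    (fun f S hS => hS.preimage f.continuous)
    (fun D' _ _ _ hc' _ _ hE h => exists_isOpen_of_isAffine hc' hE h) hE h

theorem exists_isLocallyClosed_descend {i : I} [CompactSpace (D.obj i)] {E : Set (D.obj i)}
    (hE : IsConstructible E) (h : IsLocallyClosed (⇑(c.π.app i) ⁻¹' E : Set c.pt)) :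
    ∃ (j : I) (φ : j ⟶ i), IsLocallyClosed (⇑(D.map φ) ⁻¹' E) :=
  exists_descend_local hc (P := fun {X} (S : Set X) => IsLocallyClosed S)
    (fun O hO S hS => hO.isLocallyClosed_iff_coe_preimage.2 hS)
    (fun f S hS => hS.preimage f.continuous)
    (fun D' _ _ _ hc' _ _ hE h => exists_isLocallyClosed_of_isAffine hc' hE h) hE h

omit hc

end

end Groth.Agent.LimLib
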