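import Groth.Agent.LimLib.Descend
import Mathlib.Topology.Connected.Clopen

/-! Irreducible and connected components along affine limits with dominant projections. -/

set_option autoImplicit false
set_option backward.isDefEq.respectTransparency false
set_option backward.defeqAttrib.useBackward true

universe u v

open CategoryTheory Limits AlgebraicGeometry TopologicalSpace Topology Set

namespace Groth.Agent.LimLib

noncomputable section

section Topology

variable {X Y : Type v} [TopologicalSpace X] [TopologicalSpace Y]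

theorem bijOn_irreducibleComponents_of_finite {f : X → Y} (hf : Continuous f) (hd : DenseRange f)
    (hfin : (irreducibleComponents X).Finite)
    (hsep : ∀ Z ∈ irreducibleComponents X, ∀ W ∈ irreducibleComponents X,
      closure (f '' Z) ⊆ closure (f '' W) → Z = W) :
    BijOn (fun Z : Set X => closure (f '' Z)) (irreducibleComponents X) (irreducibleComponents Y) := by
  have hirr : ∀ Z ∈ irreducibleComponents X, IsIrreducible (closure (f '' Z)) :=
    fun Z hZ => (hZ.1.image f hf.continuousOn).closure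
  have hcov : (⋃₀ ((fun Z : Set X => closure (f '' Z)) '' irreducibleComponents X)) = univ := by
    have h1 : IsClosed (⋃₀ ((fun Z : Set X => closure (f '' Z)) '' irreducibleComponents X)) := by
      rw [sUnion_image]
      exact hfin.isClosed_biUnion fun _ _ => isClosed_closure
    refine eq_univ_of_univ_subset (hd.closure_range ▸ h1.closure_subset_iff.2 ?_)
    rintro _ ⟨x, rfl⟩
    exact ⟨_, ⟨irreducibleComponent x, irreducibleComponent_mem_irreducibleComponents x, rfl⟩,
      subset_closure ⟨x, mem_irreducibleComponent, rfl⟩⟩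
  have hmax : ∀ T : Set Y, IsIrreducible T → ∃ Z ∈ irreducibleComponents X, T ⊆ closure (f '' Z) := by
    intro T hT
    classical
    obtain ⟨z, hz, hTz⟩ := isIrreducible_iff_sUnion_isClosed.mp hT
      (hfin.image (fun Z : Set X => closure (f '' Z))).toFinset
      (fun z hz => by
        obtain ⟨Z, -, rfl⟩ := (hfin.image _).mem_toFinset.1 hz
        exact isClosed_closure)
      (by rw [Set.Finite.coe_toFinset, hcov]; exact subset_univ T)
    obtain ⟨Z, hZ, rfl⟩ := (hfin.image _).mem_toFinset.1 hz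
    exact ⟨Z, hZ, hTz⟩
  refine ⟨fun Z hZ => ⟨hirr Z hZ, fun T hT hZT => ?_⟩, fun Z hZ W hW e => hsep Z hZ W hW (le_of_eq e),
    fun T hT => ?_⟩
  · obtain ⟨W, hW, hTW⟩ := hmax T hT
    have : Z = W := hsep Z hZ W hW (Set.Subset.trans hZT hTW)
    exact this ▸ hTW
  · obtain ⟨W, hW, hTW⟩ := hmax T hT.1
    exact ⟨W, hW, (hT.2 (hirr W hW) hTW).antisymm hTW⟩

theorem finite_connectedComponents [NoetherianSpace X] :
    (range (connectedComponent : X → Set X)).Finite := by
  classical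
  refine ((NoetherianSpace.finite_irreducibleComponents (α := X)).image
    fun Z => if h : Z.Nonempty then connectedComponent h.some else ∅).subset ?_
  rintro _ ⟨x, rfl⟩
  have h : (irreducibleComponent x).Nonempty := ⟨x, mem_irreducibleComponent⟩
  refine ⟨irreducibleComponent x, irreducibleComponent_mem_irreducibleComponents x, ?_⟩
  simp only [dif_pos h]
  exact (connectedComponent_eq
    (isIrreducible_irreducibleComponent.isConnected.isPreconnected.subset_connectedComponent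
      mem_irreducibleComponent h.some_mem)).symm

theorem isClopen_connectedComponent_of_finite (hfin : (range (connectedComponent : X → Set X)).Finite)
    (x : X) : IsClopen (connectedComponent x) := by
  refine ⟨isClosed_connectedComponent, ?_⟩
  have e : (connectedComponent x)ᶜ = ⋃ C ∈ range (connectedComponent : X → Set X) \ {connectedComponent x}, C := by
    ext y
    simp only [mem_compl_iff, mem_iUnion, exists_prop]
    refine ⟨fun hy => ⟨connectedComponent y, ⟨⟨y, rfl⟩, fun e => hy (e ▸ mem_connectedComponent)⟩,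
      mem_connectedComponent⟩, ?_⟩
    rintro ⟨_, ⟨⟨z, rfl⟩, hne⟩, hy⟩ hyx
    exact hne ((connectedComponent_eq hy).trans (connectedComponent_eq hyx).symm)
  rw [← isClosed_compl_iff, e]
  exact (hfin.subset sdiff_subset).isClosed_biUnion fun C ⟨⟨z, hz⟩, _⟩ =>
    hz ▸ isClosed_connectedComponent

theorem bijOn_connectedComponents_of_clopen {f : X → Y} (hf : Continuous f) (hd : DenseRange f)
    (O : Set X → Set Y) (hO : ∀ C ∈ range (connectedComponent : X → Set X), IsClopen (O C))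
    (hpre : ∀ C ∈ range (connectedComponent : X → Set X), f ⁻¹' O C = C)
    (hcov : ∀ y : Y, ∃ C ∈ range (connectedComponent : X → Set X), y ∈ O C) :
    BijOn (fun C : Set X => closure (f '' C)) (range (connectedComponent : X → Set X))
      (range (connectedComponent : Y → Set Y)) := by
  have heq : ∀ C ∈ range (connectedComponent : X → Set X), closure (f '' C) = O C := by
    intro C hC
    refine (closure_minimal (image_subset_iff.2 (hpre C hC).ge) (hO C hC).1).antisymm ?_
    calc O C ⊆ closure (O C ∩ range f) := hd.open_subset_closure_inter (hO C hC).2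
      _ = closure (f '' C) := by rw [← image_preimage_eq_inter_range, hpre C hC]
  have hcomp : ∀ C ∈ range (connectedComponent : X → Set X), ∀ y ∈ O C, connectedComponent y = O C := by
    intro C hC y hy
    refine ((hO C hC).connectedComponent_subset hy).antisymm ?_
    refine IsPreconnected.subset_connectedComponent ?_ hy
    obtain ⟨x, rfl⟩ := hC
    rw [← heq _ ⟨x, rfl⟩]
    exact (isPreconnected_connectedComponent.image f hf.continuousOn).closure
  refine ⟨fun C hC => ?_, fun C hC C' hC' e => ?_, ?_⟩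
  · obtain ⟨x, rfl⟩ := hC
    refine ⟨f x, ?_⟩
    show connectedComponent (f x) = closure _
    rw [heq _ ⟨x, rfl⟩]
    refine hcomp _ ⟨x, rfl⟩ _ ?_
    exact (hpre _ ⟨x, rfl⟩).ge mem_connectedComponent
  · simp only [heq C hC, heq C' hC'] at e
    rw [← hpre C hC, ← hpre C' hC', e]
  · rintro _ ⟨y, rfl⟩
    obtain ⟨C, hC, hy⟩ := hcov y
    exact ⟨C, hC, (heq C hC).trans (hcomp C hC y hy).symm⟩

end Topology

variable {I : Type u} [SmallCategory I] [IsCofiltered I] {D : I ⥤ Scheme.{u}}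
  [∀ {i j : I} (f : i ⟶ j), IsAffineHom (D.map f)] {c : Cone D} (hc : IsLimit c)

include hc

theorem exists_open_preimage_separating {x : c.pt} {F : Set c.pt} (hF : IsClosed F) (hx : x ∉ F) :
    ∃ (i : I) (V : (D.obj i).Opens), c.π.app i x ∈ V ∧
      Disjoint (⇑(c.π.app i) ⁻¹' (V : Set (D.obj i)) : Set c.pt) F := by
  obtain ⟨_, ⟨_, ⟨i, V, -, rfl⟩, rfl⟩, hxW, hWU⟩ :=
    (isBasis_preimage_isAffineOpen D c hc).exists_subset_of_mem_open hx hF.isOpen_compl
  exact ⟨i, V, hxW, Set.disjoint_left.2 fun y hy => hWU hy⟩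

/-- Irreducible components are eventually preserved when projections are dominant. -/
theorem exists_bijOn_irreducibleComponents [NoetherianSpace c.pt] {i₁ : I}
    (hd : ∀ (j : I) (_ : j ⟶ i₁), DenseRange ⇑(c.π.app j)) :
    ∃ (i : I) (_ : i ⟶ i₁), ∀ (j : I) (_ : j ⟶ i),
      BijOn (fun Y : Set c.pt => closure (⇑(c.π.app j) '' (Y : Set c.pt) : Set (D.obj j)))
        (irreducibleComponents c.pt) (irreducibleComponents (D.obj j)) := by
  classical
  have hfin := NoetherianSpace.finite_irreducibleComponents (α := c.pt)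
  have key : ∀ p : Set c.pt × Set c.pt, ∃ k : I, p.1 ∈ irreducibleComponents c.pt →
      p.2 ∈ irreducibleComponents c.pt → p.1 ≠ p.2 → ∀ (j : I) (_ : j ⟶ k),
        ¬ closure (⇑(c.π.app j) '' p.1 : Set (D.obj j)) ⊆ closure (⇑(c.π.app j) '' p.2) := by
    rintro ⟨Z, W⟩
    by_cases h : Z ∈ irreducibleComponents c.pt ∧ W ∈ irreducibleComponents c.pt ∧ Z ≠ W
    · obtain ⟨hZ, hW, hne⟩ := h
      obtain ⟨x, hxZ, hxW⟩ := Set.not_subset.1 fun hsub => hne (hsub.antisymm (hZ.2 hW.1 hsub))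
      obtain ⟨k, V, hxV, hVW⟩ := exists_open_preimage_separating hc
        (isClosed_of_mem_irreducibleComponents W hW) hxW
      refine ⟨k, fun _ _ _ j φ hsub => ?_⟩
      obtain ⟨_, hy, y, hyW, rfl⟩ := mem_closure_iff.1 (hsub (subset_closure ⟨x, hxZ, rfl⟩))
        (D.map φ ⁻¹ᵁ V) (D.map φ ⁻¹ᵁ V).2
        (show D.map φ (c.π.app j x) ∈ V by rwa [← Scheme.Hom.comp_apply, c.w])
      refine Set.disjoint_left.1 hVW ?_ hyW
      show c.π.app k y ∈ V
      rw [← c.w φ, Scheme.Hom.comp_apply]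
      exact hy
    · exact ⟨i₁, fun h1 h2 h3 => absurd ⟨h1, h2, h3⟩ h⟩
  choose k hk using key
  let P := hfin.toFinset ×ˢ hfin.toFinset
  obtain ⟨i, hi⟩ := IsCofiltered.inf_objs_exists (insert i₁ (P.image k))
  obtain ⟨φ₁⟩ := hi (Finset.mem_insert_self i₁ _)
  refine ⟨i, φ₁, fun j ψ => bijOn_irreducibleComponents_of_finite (c.π.app j).continuous
    (hd j (ψ ≫ φ₁)) hfin fun Z hZ W hW hsub => by_contra fun hne => ?_⟩
  obtain ⟨φ⟩ := hi (Finset.mem_insert_of_mem (Finset.mem_image_of_mem k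
    (show (Z, W) ∈ P from Finset.mem_product.2 ⟨hfin.mem_toFinset.2 hZ, hfin.mem_toFinset.2 hW⟩)))
  exact hk (Z, W) hZ hW hne j (ψ ≫ φ) hsub

/-- A finite clopen partition of the limit descends, when projections are dominant. -/
theorem exists_clopen_partition_descend {i₁ : I} [CompactSpace (D.obj i₁)]
    (hd : ∀ (j : I) (_ : j ⟶ i₁), DenseRange ⇑(c.π.app j)) {α : Type u} [Finite α]
    (A : α → Set c.pt) (hA : ∀ a, IsClopen (A a)) (hdisj : Pairwise (Function.onFun Disjoint A))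
    (hcov : ⋃ a, A a = univ) :
    ∃ (i : I) (_ : i ⟶ i₁), ∀ (j : I) (_ : j ⟶ i), ∃ O : α → Set (D.obj j),
      (∀ a, IsClopen (O a)) ∧ (∀ a, (⇑(c.π.app j) ⁻¹' O a : Set c.pt) = A a) ∧ ⋃ a, O a = univ := by
  classical
  have := isAffineHom_π_app D c hc i₁
  have : CompactSpace c.pt := QuasiCompact.compactSpace_of_compactSpace (c.π.app i₁)
  have key (a : α) := exists_preimage_eq_over hc (i := i₁) ⟨A a, (hA a).2⟩ (hA a).1.isCompact
  choose k φ V hV e using key
  have := Fintype.ofFinite α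
  obtain ⟨i₂, hi₂⟩ := IsCofiltered.inf_objs_exists (insert i₁ (Finset.univ.image k))
  obtain ⟨φ₂⟩ := hi₂ (Finset.mem_insert_self i₁ _)
  have ψ (a : α) : i₂ ⟶ k a :=
    (hi₂ (Finset.mem_insert_of_mem (Finset.mem_image_of_mem k (Finset.mem_univ a)))).some
  have hU : c.π.app i₂ ⁻¹ᵁ (⨆ a, D.map (ψ a) ⁻¹ᵁ V a) = ⊤ := by
    refine TopologicalSpace.Opens.ext ?_
    rw [Scheme.Hom.preimage_iSup, Opens.coe_iSup, Opens.coe_top, ← hcov]
    refine iUnion_congr fun a => ?_
    rw [← Scheme.Hom.comp_preimage, c.w, e]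
    rfl
  have : CompactSpace (D.obj i₂) := QuasiCompact.compactSpace_of_compactSpace (D.map φ₂)
  obtain ⟨i, χ, hi⟩ : ∃ (i : I) (χ : i ⟶ i₂), D.map χ ⁻¹ᵁ (⨆ a, D.map (ψ a) ⁻¹ᵁ V a) = ⊤ := by
    obtain ⟨i, χ, h⟩ := exists_preimage_eq_empty_lc hc
      (lcClosed_of_isClosed (⨆ a, D.map (ψ a) ⁻¹ᵁ V a).2.isClosed_compl)
      (Set.eq_empty_of_forall_notMem fun s hs => hs (hU.ge (mem_univ s)))
    exact ⟨i, χ, top_le_iff.1 fun x _ => by_contra fun hx => h.le (show x ∈ _ from hx)⟩
  refine ⟨i, χ ≫ φ₂, fun j ρ => ⟨fun a => ⇑(D.map (ρ ≫ χ ≫ ψ a)) ⁻¹' (V a : Set (D.obj (k a))),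
    ?_, fun a => (preimage_preimage_eq (c.w _) _).trans (congrArg Opens.carrier (e a)), ?_⟩⟩
  · have hopen (a : α) := (V a).2.preimage (D.map (ρ ≫ χ ≫ ψ a)).continuous
    have hpre (a : α) : (⇑(c.π.app j) ⁻¹' (⇑(D.map (ρ ≫ χ ≫ ψ a)) ⁻¹' (V a : Set _)) : Set c.pt) = A a :=
      (preimage_preimage_eq (c.w _) _).trans (congrArg Opens.carrier (e a))
    have hdis (a b : α) (hab : a ≠ b) :
        Disjoint (⇑(D.map (ρ ≫ χ ≫ ψ a)) ⁻¹' (V a : Set _)) (⇑(D.map (ρ ≫ χ ≫ ψ b)) ⁻¹' (V b : Set _)) := by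
      rw [disjoint_iff_inter_eq_empty]
      by_contra hne
      obtain ⟨x, hx⟩ := (hd j (ρ ≫ χ ≫ φ₂)).exists_mem_open ((hopen a).inter (hopen b))
        (nonempty_iff_ne_empty.2 hne)
      exact Set.disjoint_left.1 (hdisj hab) ((hpre a).le hx.1) ((hpre b).le hx.2)
    intro a
    refine ⟨?_, hopen a⟩
    rw [← isOpen_compl_iff]
    have e' : (⇑(D.map (ρ ≫ χ ≫ ψ a)) ⁻¹' (V a : Set _))ᶜ =
        ⋃ b ∈ ({a}ᶜ : Set α), ⇑(D.map (ρ ≫ χ ≫ ψ b)) ⁻¹' (V b : Set _) := by
      ext x
      simp only [mem_compl_iff, mem_iUnion, exists_prop, mem_singleton_iff]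
      refine ⟨fun hx => ?_, fun ⟨b, hb, hxb⟩ hxa => Set.disjoint_left.1 (hdis b a hb) hxb hxa⟩
      have : D.map ρ x ∈ D.map χ ⁻¹ᵁ (⨆ a, D.map (ψ a) ⁻¹ᵁ V a) := hi.ge (mem_univ _)
      obtain ⟨b, hb⟩ := Opens.mem_iSup.1 this
      have hb' : D.map (ρ ≫ χ ≫ ψ b) x ∈ V b := by
        simpa [Scheme.Hom.comp_apply] using hb
      exact ⟨b, fun h => hx (h ▸ hb'), hb'⟩
    rw [e']
    exact isOpen_biUnion fun b _ => hopen b
  · refine eq_univ_of_forall fun x => ?_
    have : D.map ρ x ∈ D.map χ ⁻¹ᵁ (⨆ a, D.map (ψ a) ⁻¹ᵁ V a) := hi.ge (mem_univ _)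
    obtain ⟨b, hb⟩ := Opens.mem_iSup.1 this
    exact mem_iUnion.2 ⟨b, by simpa [Scheme.Hom.comp_apply] using hb⟩

/-- Connected components are eventually preserved when projections are dominant. -/
theorem exists_bijOn_connectedComponents [NoetherianSpace c.pt] {i₁ : I} [CompactSpace (D.obj i₁)]
    (hd : ∀ (j : I) (_ : j ⟶ i₁), DenseRange ⇑(c.π.app j)) :
    ∃ (i : I) (_ : i ⟶ i₁), ∀ (j : I) (_ : j ⟶ i),
      BijOn (fun C : Set c.pt => closure (⇑(c.π.app j) '' (C : Set c.pt) : Set (D.obj j)))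
        (range (connectedComponent : c.pt → Set c.pt))
        (range (connectedComponent : D.obj j → Set (D.obj j))) := by
  have hfin := finite_connectedComponents (X := c.pt)
  let α := range (connectedComponent : c.pt → Set c.pt)
  have : Finite α := hfin.to_subtype
  obtain ⟨i, φ, hi⟩ := exists_clopen_partition_descend hc hd (fun a : α => a.1)
    (fun a => by
      obtain ⟨x, hx⟩ := a.2
      exact hx ▸ isClopen_connectedComponent_of_finite hfin x)
    (fun ⟨_, x, rfl⟩ ⟨_, y, rfl⟩ hne =>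
      connectedComponent_disjoint fun h => hne (Subtype.ext h))
    (eq_univ_of_forall fun x => mem_iUnion.2 ⟨⟨_, x, rfl⟩, mem_connectedComponent⟩)
  refine ⟨i, φ, fun j ψ => ?_⟩
  obtain ⟨O, hO, hpre, hcov⟩ := hi j ψ
  classical
  let O' : Set c.pt → Set (D.obj j) := fun C =>
    if h : C ∈ range (connectedComponent : c.pt → Set c.pt) then O ⟨C, h⟩ else ∅
  refine bijOn_connectedComponents_of_clopen (c.π.app j).continuous (hd j (ψ ≫ φ)) O'
    (fun C hC => by rw [show O' C = O ⟨C, hC⟩ from dif_pos hC]; exact hO _)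
    (fun C hC => by rw [show O' C = O ⟨C, hC⟩ from dif_pos hC]; exact hpre _) fun y => ?_
  obtain ⟨⟨C, hC⟩, hy⟩ := mem_iUnion.1 (hcov.ge (mem_univ y))
  exact ⟨C, hC, by rw [show O' C = O ⟨C, hC⟩ from dif_pos hC]; exact hy⟩

/-- For embeddings over a Noetherian stage, the projections are eventually dominant. -/
theorem exists_denseRange_of_isEmbedding {i₀ : I} [NoetherianSpace (D.obj i₀)]
    (he : ∀ (i j : I) (φ : i ⟶ j), IsEmbedding ⇑(D.map φ)) :
    ∃ (k : I) (_ : k ⟶ i₀), ∀ (j : I) (_ : j ⟶ k), DenseRange ⇑(c.π.app j) := by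
  obtain ⟨k, φ, hk⟩ := exists_preimage_eq_empty_lc hc (i := i₀)
    (C := (closure (range ⇑(c.π.app i₀)))ᶜ)
    (lcClosed_of_isConstructible
      ((show IsRetrocompact (closure (range ⇑(c.π.app i₀)))ᶜ from
        fun _ _ _ => NoetherianSpace.isCompact _).isConstructible isClosed_closure.isOpen_compl))
    (Set.eq_empty_of_forall_notMem fun s hs => hs (subset_closure ⟨s, rfl⟩))
  refine ⟨k, φ, fun j ψ => ?_⟩
  rw [DenseRange, dense_iff_closure_eq, eq_univ_iff_forall]
  intro x
  have e : (range ⇑(c.π.app j) : Set (D.obj j)) = ⇑(D.map (ψ ≫ φ)) ⁻¹' range ⇑(c.π.app i₀) := by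
    ext y
    refine ⟨?_, ?_⟩
    · rintro ⟨s, rfl⟩
      exact ⟨s, (congrArg (fun g : c.pt ⟶ D.obj i₀ => g s) (c.w (ψ ≫ φ))).symm⟩
    · rintro ⟨s, hs⟩
      exact ⟨s, (he _ _ (ψ ≫ φ)).injective
        ((congrArg (fun g : c.pt ⟶ D.obj i₀ => g s) (c.w (ψ ≫ φ))).trans hs)⟩
  rw [(he _ _ (ψ ≫ φ)).closure_eq_preimage_closure_image]
  have h1 : range ⇑(c.π.app i₀) ⊆ ⇑(D.map (ψ ≫ φ)) '' range ⇑(c.π.app j) := by
    rintro _ ⟨s, rfl⟩
    exact ⟨_, ⟨s, rfl⟩, congrArg (fun g : c.pt ⟶ D.obj i₀ => g s) (c.w (ψ ≫ φ))⟩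
  refine closure_mono h1 (by_contra fun hx => hk.le (show D.map ψ x ∈ _ from ?_))
  simpa [Scheme.Hom.comp_apply] using hx

omit hc

end

end Groth.Agent.LimLib
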