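import Mathlib.RingTheory.AlgebraicIndependent.Adjoin
import Mathlib.RingTheory.AlgebraicIndependent.TranscendenceBasis
import Mathlib.FieldTheory.IsAlgClosed.AlgebraicClosure
import Mathlib.AlgebraicGeometry.ResidueField
import Mathlib.AlgebraicGeometry.Morphisms.UnderlyingMap

/-! A common extension of a family of field extensions; products of surjective morphisms. -/

set_option autoImplicit false
set_option backward.isDefEq.respectTransparency false
set_option backward.defeqAttrib.useBackward true

universe u

open CategoryTheory Limits AlgebraicGeometry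

namespace Groth.Agent.LimLib

/-- Any family of extensions of a field embeds into one extension. -/
theorem exists_common_extension {k : Type u} [Field k] {ι : Type u} (K : ι → Type u)
    [∀ i, Field (K i)] [∀ i, Algebra k (K i)] :
    ∃ (Ω : Type u) (_ : Field Ω) (_ : Algebra k Ω), ∀ i, Nonempty (K i →ₐ[k] Ω) := by
  let V := Σ i, K i
  let Ω := AlgebraicClosure (FractionRing (MvPolynomial V k))
  refine ⟨Ω, inferInstance, inferInstance, fun i => ?_⟩
  obtain ⟨s, hs⟩ := exists_isTranscendenceBasis k (K i)
  let E := IntermediateField.adjoin k (Set.range ((↑) : s → K i))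
  have : Algebra.IsAlgebraic E (K i) := hs.isAlgebraic_field
  let g : MvPolynomial s k →ₐ[k] Ω :=
    (IsScalarTower.toAlgHom k (MvPolynomial V k) Ω).comp (MvPolynomial.rename fun a => (⟨i, a.1⟩ : V))
  have hinj : Function.Injective g := by
    refine Function.Injective.comp (g := ⇑(algebraMap (MvPolynomial V k) Ω)) ?_ (MvPolynomial.rename_injective _ fun a b h => ?_)
    · rw [IsScalarTower.algebraMap_eq (MvPolynomial V k) (FractionRing (MvPolynomial V k)) Ω]
      exact (RingHom.injective (algebraMap (FractionRing (MvPolynomial V k)) Ω)).comp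
        (IsFractionRing.injective (MvPolynomial V k) (FractionRing (MvPolynomial V k)))
    · simpa [V, Subtype.ext_iff] using h
  let e : E →ₐ[k] Ω := (IsFractionRing.liftAlgHom (K := FractionRing (MvPolynomial s k)) hinj).comp
    hs.1.aevalEquivField.symm.toAlgHom
  letI : Algebra E Ω := e.toRingHom.toAlgebra
  haveI : IsScalarTower k E Ω := .of_algebraMap_eq fun x => (e.commutes x).symm
  exact ⟨(IsAlgClosed.lift : K i →ₐ[E] Ω).restrictScalars k⟩

/-- Any family of field homomorphisms out of a field factors one homomorphism. -/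
theorem exists_common_hom {κ : CommRingCat.{u}} (hκ : IsField κ) {ι : Type u} (K : ι → CommRingCat.{u})
    (hK : ∀ i, IsField (K i)) (φ : ∀ i, κ ⟶ K i) :
    ∃ (Ω : Type u) (_ : Field Ω) (a : κ ⟶ CommRingCat.of Ω),
      ∀ i, ∃ σ : K i ⟶ CommRingCat.of Ω, φ i ≫ σ = a := by
  let := hκ.toField
  let := fun i => (hK i).toField
  let : ∀ i, Algebra κ (K i) := fun i => (φ i).hom.toAlgebra
  obtain ⟨Ω, hF, hA, hσ⟩ := exists_common_extension (k := κ) (fun i => K i)
  exact ⟨Ω, hF, CommRingCat.ofHom (algebraMap κ Ω), fun i =>
    ⟨CommRingCat.ofHom (hσ i).some.toRingHom,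
      CommRingCat.hom_ext (RingHom.ext fun r => (hσ i).some.commutes r)⟩⟩

/-- A product of surjective morphisms to `S` in schemes over `S` is surjective. -/
theorem surjective_of_isLimit_fan {S : Scheme.{u}} {I : Type u} (T : I → Over S)
    (hT : ∀ i, Surjective (T i).hom) (c : Fan T) (hc : IsLimit c) : Surjective c.pt.hom := by
  refine ⟨fun x => ?_⟩
  choose y hy using fun i => (hT i).surj x
  let φ (i : I) : S.residueField x ⟶ (T i).left.residueField (y i) :=
    (S.residueFieldCongr (hy i).symm).hom ≫ (T i).hom.residueFieldMap (y i)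
  obtain ⟨Ω, hF, a, hσ⟩ := exists_common_hom (κ := S.residueField x)
    (Field.toIsField _) (fun i => (T i).left.residueField (y i)) (fun i => Field.toIsField _) φ
  choose σ hσ using hσ
  let P : Over S := Over.mk (Spec.map a ≫ S.fromSpecResidueField x)
  let v (i : I) : P ⟶ T i := Over.homMk
    (Spec.map (σ i) ≫ (T i).left.fromSpecResidueField (y i)) (by
      have e := hσ i
      simp [P, ← e, φ])
  let l := Fan.IsLimit.lift hc v
  refine ⟨l.left (IsLocalRing.closedPoint Ω), ?_⟩
  rw [← Scheme.Hom.comp_apply, Over.w l]
  show (Spec.map a ≫ S.fromSpecResidueField x) (IsLocalRing.closedPoint Ω) = x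
  rw [Scheme.Hom.comp_apply]
  exact S.fromSpecResidueField_apply x (Spec.map a (IsLocalRing.closedPoint Ω))

end Groth.Agent.LimLib
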