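import Groth.Agent.LimLib.Space
import Mathlib.AlgebraicGeometry.Morphisms.Affine
import Mathlib.Algebra.Category.Ring.Constructions

/-! Sections over affine opens along affine limits; generation of sections descends. -/

set_option autoImplicit false
set_option backward.isDefEq.respectTransparency false
set_option backward.defeqAttrib.useBackward true
set_option linter.style.haveILetI false

universe u

open CategoryTheory Limits AlgebraicGeometry TopologicalSpace

namespace Groth.Agent.LimLib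

noncomputable section

variable {I : Type u} [SmallCategory I] {D : I ⥤ Scheme.{u}} {c : Cone D} {i : I}
  (W : (D.obj i).Opens)

theorem π_preimage_le (j : Over i) :
    c.π.app i ⁻¹ᵁ W ≤ c.π.app j.left ⁻¹ᵁ (D.map j.hom ⁻¹ᵁ W) := by
  rw [← Scheme.Hom.comp_preimage, c.w]

theorem map_preimage_le {j k : Over i} (f : k ⟶ j) :
    D.map k.hom ⁻¹ᵁ W ≤ D.map f.left ⁻¹ᵁ (D.map j.hom ⁻¹ᵁ W) := by
  rw [← Scheme.Hom.comp_preimage, ← D.map_comp, Over.w f]

/-- Restriction of sections over the preimages of `W` along a transition map. -/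
def rs {j k : Over i} (f : k ⟶ j) :
    Γ(D.obj j.left, D.map j.hom ⁻¹ᵁ W) ⟶ Γ(D.obj k.left, D.map k.hom ⁻¹ᵁ W) :=
  (D.map f.left).appLE _ _ (map_preimage_le W f)

variable (c) in
/-- Pullback of sections over the preimage of `W` to the limit. -/
def πs (j : Over i) : Γ(D.obj j.left, D.map j.hom ⁻¹ᵁ W) ⟶ Γ(c.pt, c.π.app i ⁻¹ᵁ W) :=
  (c.π.app j.left).appLE _ _ (π_preimage_le W j)

theorem rs_comp {j k l : Over i} (f : k ⟶ j) (g : l ⟶ k) : rs W (g ≫ f) = rs W f ≫ rs W g := by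
  simp [rs, Scheme.Hom.appLE_comp_appLE]

theorem rs_rs {j k l : Over i} (f : k ⟶ j) (g : l ⟶ k) (x) :
    rs W g (rs W f x) = rs W (g ≫ f) x := by
  rw [rs_comp]; rfl

theorem πs_rs {j k : Over i} (f : k ⟶ j) : rs W f ≫ πs c W k = πs c W j := by
  simp [rs, πs, Scheme.Hom.appLE_comp_appLE]

theorem πs_rs_apply {j k : Over i} (f : k ⟶ j) (x) : πs c W k (rs W f x) = πs c W j x := by
  rw [← πs_rs W f]; rfl

variable [IsCofiltered I] [∀ {i j : I} (f : i ⟶ j), IsAffineHom (D.map f)] (hc : IsLimit c)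
variable {W}
include hc

/-- Sections over an affine open of the limit come from a stage. -/
theorem exists_πs_eq (hW : IsAffineOpen W) (s : Γ(c.pt, c.π.app i ⁻¹ᵁ W)) :
    ∃ (j : Over i) (t : Γ(D.obj j.left, D.map j.hom ⁻¹ᵁ W)), πs c W j t = s := by
  have (j : Over i) : IsAffine ((opensDiagram D i W).obj j) := hW.preimage (D.map _)
  obtain ⟨j, t, ht⟩ := exists_appTop_π_eq_of_isAffine_of_isLimit _ _
    (isLimitOpensCone D c hc i W) ((c.π.app i ⁻¹ᵁ W).topIso.inv s)
  refine ⟨j, (D.map j.hom ⁻¹ᵁ W).topIso.hom t, ?_⟩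
  have e : ((opensCone D c i W).π.app j).appTop
      = (D.map j.hom ⁻¹ᵁ W).topIso.hom ≫ πs c W j ≫ (c.π.app i ⁻¹ᵁ W).topIso.inv :=
    Scheme.Hom.resLE_app_top ..
  rw [e, ConcreteCategory.comp_apply, ConcreteCategory.comp_apply] at ht
  exact (ConcreteCategory.bijective_of_isIso (c.π.app i ⁻¹ᵁ W).topIso.inv).1 ht

/-- Sections over an affine open which agree on the limit agree at some stage. -/
theorem exists_rs_eq (hW : IsAffineOpen W) {j : Over i}
    {x y : Γ(D.obj j.left, D.map j.hom ⁻¹ᵁ W)} (h : πs c W j x = πs c W j y) :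
    ∃ (k : Over i) (f : k ⟶ j), rs W f x = rs W f y := by
  have hle := π_preimage_le (c := c) W j
  have hge : c.π.app j.left ⁻¹ᵁ (D.map j.hom ⁻¹ᵁ W) ≤ c.π.app i ⁻¹ᵁ W := by
    rw [← Scheme.Hom.comp_preimage, c.w]
  have h' : (c.π.app j.left).app _ x = (c.π.app j.left).app _ y := by
    have := congrArg (c.pt.presheaf.map (homOfLE hge).op) h
    simpa [πs, ← ConcreteCategory.comp_apply, Scheme.Hom.app_eq_appLE] using this
  obtain ⟨k, f, hk⟩ := exists_app_map_eq_map_of_isLimit D c hc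
    (hW.preimage (D.map j.hom)).isCompact x y h'
  refine ⟨Over.mk (f ≫ j.hom), Over.homMk f, ?_⟩
  have hle' : D.map (f ≫ j.hom) ⁻¹ᵁ W ≤ D.map f ⁻¹ᵁ (D.map j.hom ⁻¹ᵁ W) := by
    rw [← Scheme.Hom.comp_preimage, ← D.map_comp]
  have := congrArg ((D.obj k).presheaf.map (homOfLE hle').op) hk
  simpa [rs, ← ConcreteCategory.comp_apply, Scheme.Hom.app_eq_appLE] using this

/-- If subrings of sections over the stages exhaust the sections of the limit and together with
finitely many sections generate, then they are everything eventually. -/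
theorem exists_forall_eq_top (hW : IsAffineOpen W)
    (S : ∀ j : Over i, Subring Γ(D.obj j.left, D.map j.hom ⁻¹ᵁ W))
    (mono : ∀ {j k : Over i} (f : k ⟶ j) {x}, x ∈ S j → rs W f x ∈ S k)
    (dense : ∀ x : Γ(c.pt, c.π.app i ⁻¹ᵁ W), ∃ j, ∃ y ∈ S j, πs c W j y = x)
    {j₀ : Over i} {s : Set Γ(D.obj j₀.left, D.map j₀.hom ⁻¹ᵁ W)} (hs : s.Finite)
    (gen : ∀ (k : Over i) (f : k ⟶ j₀),
      Subring.closure ((S k : Set _) ∪ rs W f '' s) = ⊤) :
    ∃ (m : Over i) (_ : m ⟶ j₀), ∀ (k : Over i) (_ : k ⟶ m), S k = ⊤ := by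
  suffices h : ∃ (m : Over i) (f : m ⟶ j₀), ∀ g ∈ s, rs W f g ∈ S m by
    obtain ⟨m, f, hm⟩ := h
    refine ⟨m, f, fun k f' => ?_⟩
    rw [eq_top_iff, ← gen k (f' ≫ f), Subring.closure_le]
    rintro x (hx | ⟨g, hg, rfl⟩)
    · exact hx
    · rw [SetLike.mem_coe, ← rs_rs]
      exact mono f' (hm g hg)
  clear gen
  induction s, hs using Set.Finite.induction_on with
  | empty => exact ⟨j₀, 𝟙 _, fun g hg => absurd hg (Set.notMem_empty g)⟩
  | @insert a t _ _ ih =>
    suffices ∃ (m : Over i) (f : m ⟶ j₀), rs W f a ∈ S m by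
      obtain ⟨m₁, f₁, h₁⟩ := this
      have ih' : ∃ (m : Over i) (f : m ⟶ j₀), ∀ g ∈ t, rs W f g ∈ S m := ih
      obtain ⟨m₂, f₂, h₂⟩ := ih'
      obtain ⟨l, a₁, a₂, e⟩ := IsCofiltered.cospan f₁ f₂
      refine ⟨l, a₁ ≫ f₁, fun g hg => ?_⟩
      rcases hg with rfl | hg
      · rw [← rs_rs]; exact mono a₁ h₁
      · rw [e, ← rs_rs]; exact mono a₂ (h₂ g hg)
    obtain ⟨l, y, hy, hl⟩ := dense (πs c W j₀ a)
    let m₀ := IsCofiltered.min j₀ l
    have h : πs c W m₀ (rs W (IsCofiltered.minToLeft j₀ l) a) =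
        πs c W m₀ (rs W (IsCofiltered.minToRight j₀ l) y) := by
      rw [πs_rs_apply, πs_rs_apply, hl]
    obtain ⟨m, f, hm⟩ := exists_rs_eq hc hW h
    refine ⟨m, f ≫ IsCofiltered.minToLeft j₀ l, ?_⟩
    rw [← rs_rs, hm]
    exact mono f (mono _ hy)

omit [∀ {i j : I} (f : i ⟶ j), IsAffineHom (D.map f)] hc in
/-- The density hypothesis from generators. -/
theorem dense_of_closure
    (S : ∀ j : Over i, Subring Γ(D.obj j.left, D.map j.hom ⁻¹ᵁ W))
    (mono : ∀ {j k : Over i} (f : k ⟶ j) {x}, x ∈ S j → rs W f x ∈ S k)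
    {T : Set Γ(c.pt, c.π.app i ⁻¹ᵁ W)} (hT : Subring.closure T = ⊤)
    (h : ∀ x ∈ T, ∃ j, ∃ y ∈ S j, πs c W j y = x) (x : Γ(c.pt, c.π.app i ⁻¹ᵁ W)) :
    ∃ j, ∃ y ∈ S j, πs c W j y = x := by
  have hx : x ∈ Subring.closure T := hT ▸ Subring.mem_top x
  induction hx using Subring.closure_induction with
  | mem x hx => exact h x hx
  | zero => exact ⟨Over.mk (𝟙 i), 0, zero_mem _, map_zero _⟩
  | one => exact ⟨Over.mk (𝟙 i), 1, one_mem _, map_one _⟩
  | add x y _ _ hx hy =>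
    obtain ⟨j, a, ha, rfl⟩ := hx
    obtain ⟨k, b, hb, rfl⟩ := hy
    exact ⟨IsCofiltered.min j k, _, add_mem (mono (IsCofiltered.minToLeft j k) ha)
      (mono (IsCofiltered.minToRight j k) hb), by rw [map_add, πs_rs_apply, πs_rs_apply]⟩
  | neg x _ hx =>
    obtain ⟨j, a, ha, rfl⟩ := hx
    exact ⟨j, -a, neg_mem ha, map_neg _ _⟩
  | mul x y _ _ hx hy =>
    obtain ⟨j, a, ha, rfl⟩ := hx
    obtain ⟨k, b, hb, rfl⟩ := hy
    exact ⟨IsCofiltered.min j k, _, mul_mem (mono (IsCofiltered.minToLeft j k) ha)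
      (mono (IsCofiltered.minToRight j k) hb), by rw [map_mul, πs_rs_apply, πs_rs_apply]⟩

/-- A quasi-compact open which becomes affine on the limit is affine at some stage. -/
theorem exists_isAffineOpen_map_preimage [∀ i, QuasiSeparatedSpace (D.obj i)]
    (hW : IsCompact (W : Set (D.obj i))) (hW' : IsAffineOpen (c.π.app i ⁻¹ᵁ W)) :
    ∃ (j : I) (φ : j ⟶ i), IsAffineOpen (D.map φ ⁻¹ᵁ W) := by
  have (j : Over i) : CompactSpace ((opensDiagram D i W).obj j) :=
    isCompact_iff_compactSpace.mp (QuasiCompact.isCompact_preimage _ W.2 hW)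
  have (j : Over i) : QuasiSeparatedSpace ((opensDiagram D i W).obj j) :=
    (isQuasiSeparated_iff_quasiSeparatedSpace _ (D.map _ ⁻¹ᵁ _).2).mp (.of_quasiSeparatedSpace _)
  have : IsAffine (opensCone D c i W).pt := hW'
  obtain ⟨j, hj⟩ := Scheme.exists_isAffine_of_isLimit _ _ (isLimitOpensCone D c hc i W)
  exact ⟨j.left, j.hom, hj⟩

end

/-- Sections on a base change of affine opens are generated by those of the factors. -/
theorem closure_union_appLE_eq_top {X Y S T : Scheme.{u}} {f : T ⟶ S} {g : Y ⟶ X} {iX : X ⟶ S}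
    {iY : Y ⟶ T} (H : IsPullback g iY iX f) {US : S.Opens} (hUS : IsAffineOpen US) {UT : T.Opens}
    (hUT : IsAffineOpen UT) {UX : X.Opens} (hUX : IsAffineOpen UX) (hUST : UT ≤ f ⁻¹ᵁ US)
    (hUSX : UX ≤ iX ⁻¹ᵁ US) {UY : Y.Opens} (hUY : UY = g ⁻¹ᵁ UX ⊓ iY ⁻¹ᵁ UT) :
    Subring.closure (Set.range (g.appLE UX UY (by simp [*])) ∪
      Set.range (iY.appLE UT UY (by simp [*]))) = ⊤ := by
  haveI : IsAffine US.toScheme := hUS
  haveI : IsAffine UT.toScheme := hUT
  haveI : IsAffine UX.toScheme := hUX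
  haveI : IsAffineHom (f.resLE US UT hUST) := inferInstance
  have h := CommRingCat.closure_range_union_range_eq_top_of_isPushout
    (isPushout_appTop_of_isPullback (Scheme.Hom.isPullback_resLE H hUST hUSX hUY))
  let e : Γ(UY, ⊤) ≅ Γ(Y, UY) := UY.topIso
  have key := congrArg (Subring.map e.hom.hom) h
  rw [RingHom.map_closure, Set.image_union] at key
  refine eq_top_iff.2 ((le_trans ?_ key.ge).trans (Subring.closure_mono ?_))
  · rintro x -
    refine ⟨e.inv x, Subring.mem_top _, ?_⟩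
    rw [← ConcreteCategory.comp_apply, e.inv_hom_id]
    rfl
  · refine Set.union_subset_union ?_ ?_
    · rintro _ ⟨_, ⟨a, rfl⟩, rfl⟩
      refine ⟨UX.topIso.hom a, ?_⟩
      rw [Scheme.Hom.appTop, Scheme.Hom.resLE_app_top]
      simp only [e, ← ConcreteCategory.comp_apply, Category.assoc, Iso.inv_hom_id, Category.comp_id]
    · rintro _ ⟨_, ⟨a, rfl⟩, rfl⟩
      refine ⟨UT.topIso.hom a, ?_⟩
      rw [Scheme.Hom.appTop, Scheme.Hom.resLE_app_top]
      simp only [e, ← ConcreteCategory.comp_apply, Category.assoc, Iso.inv_hom_id, Category.comp_id]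

end Groth.Agent.LimLib
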