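import Groth.Agent.LimLib.Eventual
import Mathlib.AlgebraicGeometry.Morphisms.Separated
import Mathlib.AlgebraicGeometry.Morphisms.FiniteType

/-! Separatedness of a limit comes from a stage. -/

set_option autoImplicit false
set_option backward.isDefEq.respectTransparency false
set_option backward.defeqAttrib.useBackward true
set_option linter.style.haveILetI false

universe u

open CategoryTheory Limits AlgebraicGeometry TopologicalSpace

namespace Groth.Agent.LimLib

noncomputable section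

/-- `appLE` commutes with restrictions. -/
theorem map_appLE_apply {X Y : Scheme.{u}} (f : X ⟶ Y) {U U' : Y.Opens} {V V' : X.Opens}
    (hU : U' ≤ U) (hV : V' ≤ V) (e : V ≤ f ⁻¹ᵁ U) (e' : V' ≤ f ⁻¹ᵁ U') (x : Γ(Y, U)) :
    X.presheaf.map (homOfLE hV).op (f.appLE U V e x) =
      f.appLE U' V' e' (Y.presheaf.map (homOfLE hU).op x) := by
  simp [← ConcreteCategory.comp_apply]

section Criterion

variable {X : Scheme.{u}}

/-- The open `V × W` of the absolute square. -/
abbrev prodOpens (V W : X.Opens) : (pullback (terminal.from X) (terminal.from X)).Opens :=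
  pullback.fst (terminal.from X) (terminal.from X) ⁻¹ᵁ V ⊓
    pullback.snd (terminal.from X) (terminal.from X) ⁻¹ᵁ W

theorem isAffineOpen_prodOpens {V W : X.Opens} (hV : IsAffineOpen V) (hW : IsAffineOpen W) :
    IsAffineOpen (prodOpens V W) := by
  haveI : IsAffine V.toScheme := hV
  haveI : IsAffine W.toScheme := hW
  haveI : IsAffine (⊤ : (⊤_ Scheme.{u}).Opens).toScheme := isAffineOpen_top _
  exact IsAffine.of_isPullback (Scheme.Hom.isPullback_resLE
    (IsPullback.of_hasPullback (terminal.from X) (terminal.from X))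
    (US := ⊤) (UT := W) (UX := V) (by simp) (by simp) rfl)

theorem diagonal_preimage_prodOpens (V W : X.Opens) :
    pullback.diagonal (terminal.from X) ⁻¹ᵁ prodOpens V W = V ⊓ W := by
  rw [prodOpens, Scheme.Hom.preimage_inf, ← Scheme.Hom.comp_preimage, ← Scheme.Hom.comp_preimage,
    pullback.diagonal_fst, pullback.diagonal_snd]
  simp

/-- The subring generated by the sections of two opens in those of their intersection. -/
def genInf (V W : X.Opens) : Subring Γ(X, V ⊓ W) :=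
  Subring.closure (Set.range (X.presheaf.map (homOfLE inf_le_left).op : Γ(X, V) ⟶ Γ(X, V ⊓ W)) ∪
    Set.range (X.presheaf.map (homOfLE inf_le_right).op : Γ(X, W) ⟶ Γ(X, V ⊓ W)))

theorem appLE_of_eq_id {f : X ⟶ X} (hf : f = 𝟙 X) {U V : X.Opens} (e : V ≤ f ⁻¹ᵁ U) (h : V ≤ U) :
    f.appLE U V e = X.presheaf.map (homOfLE h).op := by
  subst hf
  simp [Scheme.Hom.appLE]

theorem range_diagonal_appLE {V W : X.Opens} (hV : IsAffineOpen V) (hW : IsAffineOpen W) :
    ((pullback.diagonal (terminal.from X)).appLE (prodOpens V W) (V ⊓ W)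
      (diagonal_preimage_prodOpens V W).ge).hom.range = genInf V W := by
  have h := closure_union_appLE_eq_top (IsPullback.of_hasPullback (terminal.from X) (terminal.from X))
    (US := ⊤) (isAffineOpen_top _) (UT := W) hW (UX := V) hV (by simp) (by simp)
    (UY := prodOpens V W) rfl
  rw [RingHom.range_eq_map, ← h, RingHom.map_closure, Set.image_union, genInf,
    ← Set.range_comp, ← Set.range_comp, ← RingHom.coe_comp, ← RingHom.coe_comp,
    ← CommRingCat.hom_comp, ← CommRingCat.hom_comp,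
    Scheme.Hom.appLE_comp_appLE, Scheme.Hom.appLE_comp_appLE]
  rw [appLE_of_eq_id (pullback.diagonal_fst (terminal.from X)) _ inf_le_left,
    appLE_of_eq_id (pullback.diagonal_snd (terminal.from X)) _ inf_le_right]

theorem genInf_eq_top [X.IsSeparated] {V W : X.Opens} (hV : IsAffineOpen V) (hW : IsAffineOpen W) :
    genInf V W = ⊤ := by
  rw [← range_diagonal_appLE hV hW, RingHom.range_eq_top]
  have h := Scheme.Hom.app_surjective (pullback.diagonal (terminal.from X)) _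
    (isAffineOpen_prodOpens hV hW)
  rw [Scheme.Hom.appLE, CommRingCat.hom_comp, RingHom.coe_comp]
  exact (ConcreteCategory.bijective_of_isIso (X.presheaf.map (eqToHom
    (diagonal_preimage_prodOpens V W).symm).op)).2.comp h

theorem isSeparated_of_cover {ι : Type*} (V : ι → X.Opens) (hcov : IsOpenCover V)
    (hV : ∀ a, IsAffineOpen (V a)) (hVV : ∀ a b, IsAffineOpen (V a ⊓ V b))
    (hgen : ∀ a b, genInf (V a) (V b) = ⊤) : X.IsSeparated := by
  refine ⟨⟨?_⟩⟩
  refine IsZariskiLocalAtTarget.of_iSup_eq_top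
    (fun p : ι × ι => prodOpens (V p.1) (V p.2)) ?_ fun p => ?_
  · refine eq_top_iff.2 fun z _ => ?_
    obtain ⟨a, ha⟩ := hcov.exists_mem (pullback.fst (terminal.from X) (terminal.from X) z)
    obtain ⟨b, hb⟩ := hcov.exists_mem (pullback.snd (terminal.from X) (terminal.from X) z)
    exact TopologicalSpace.Opens.mem_iSup.2 ⟨(a, b), (⟨ha, hb⟩ : z ∈ prodOpens (V a) (V b))⟩
  · have : IsAffine (prodOpens (V p.1) (V p.2)).toScheme := isAffineOpen_prodOpens (hV _) (hV _)
    have : IsAffine (pullback.diagonal (terminal.from X) ⁻¹ᵁ prodOpens (V p.1) (V p.2)).toScheme := by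
      rw [diagonal_preimage_prodOpens]; exact hVV _ _
    refine IsClosedImmersion.of_surjective_of_isAffine _ ?_
    have h := (RingHom.range_eq_top.1 ((range_diagonal_appLE (hV p.1) (hV p.2)).trans (hgen _ _)))
    rw [morphismRestrict_appTop, Scheme.Hom.app_eq_appLE, Scheme.Hom.appLE_map]
    let W := prodOpens (V p.1) (V p.2)
    let f := pullback.diagonal (terminal.from X)
    have hWeq : (f ⁻¹ᵁ W).ι ''ᵁ ((f ∣_ W) ⁻¹ᵁ ⊤) = V p.1 ⊓ V p.2 := by
      rw [image_morphismRestrict_preimage, Scheme.Opens.ι_image_top]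
      exact diagonal_preimage_prodOpens _ _
    have e : f.appLE (W.ι ''ᵁ ⊤) ((f ⁻¹ᵁ W).ι ''ᵁ ((f ∣_ W) ⁻¹ᵁ ⊤))
        (image_morphismRestrict_preimage f W ⊤).le =
        (pullback (terminal.from X) (terminal.from X)).presheaf.map (eqToHom (by simp : W = W.ι ''ᵁ ⊤)).op ≫
          f.appLE W (V p.1 ⊓ V p.2) (diagonal_preimage_prodOpens _ _).ge ≫
          X.presheaf.map (eqToHom hWeq).op := by
      rw [Scheme.Hom.appLE_map, Scheme.Hom.map_appLE]
    rw [e]
    intro y
    obtain ⟨z, hz⟩ := ((ConcreteCategory.bijective_of_isIso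
      (X.presheaf.map (eqToHom hWeq).op)).2) y
    obtain ⟨w, rfl⟩ := h z
    obtain ⟨v, rfl⟩ := (ConcreteCategory.bijective_of_isIso
      ((pullback (terminal.from X) (terminal.from X)).presheaf.map
        (eqToHom (by simp : W = W.ι ''ᵁ ⊤)).op)).2 w
    exact ⟨v, hz⟩

end Criterion

variable {I : Type u} [SmallCategory I] [IsCofiltered I] (D : I ⥤ Scheme.{u}) (c : Cone D)
  [∀ {i j : I} (f : i ⟶ j), IsAffineHom (D.map f)] [∀ i, CompactSpace (D.obj i)]
  [∀ i, QuasiSeparatedSpace (D.obj i)]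

/-- If the limit is separated, so are eventually the stages. -/
theorem exists_isSeparated (hc : IsLimit c) [c.pt.IsSeparated] :
    ∃ i₀ : I, ∀ (i : I) (_ : i ⟶ i₀), (D.obj i).IsSeparated := by
  classical
  haveI := isAffineHom_π_app _ _ hc
  obtain ⟨i⟩ := IsCofiltered.nonempty (C := I)
  obtain ⟨s, hs⟩ := isCompact_univ.elim_finite_subcover
    (fun U : (D.obj i).affineOpens => ((U : (D.obj i).Opens) : Set (D.obj i)))
    (fun U => U.1.isOpen) (fun x _ => by
      obtain ⟨_, ⟨U, hU, rfl⟩, hxU, -⟩ :=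
        (D.obj i).isBasis_affineOpens.exists_subset_of_mem_open (Set.mem_univ x) isOpen_univ
      exact Set.mem_iUnion.2 ⟨⟨U, hU⟩, hxU⟩)
  suffices H : ∀ A B : (D.obj i).affineOpens, ∃ (j : I) (φ : j ⟶ i), ∀ (k : I) (ψ : k ⟶ j),
      IsAffineOpen (D.map (ψ ≫ φ) ⁻¹ᵁ A.1 ⊓ D.map (ψ ≫ φ) ⁻¹ᵁ B.1) ∧
      genInf (D.map (ψ ≫ φ) ⁻¹ᵁ A.1) (D.map (ψ ≫ φ) ⁻¹ᵁ B.1) = ⊤ by
    choose j φ hj using fun p : s × s => H p.1.1 p.2.1
    obtain ⟨l, fl, gl, hl⟩ := IsCofiltered.wideCospan φ
    refine ⟨l, fun k ψ => isSeparated_of_cover (fun a : s => D.map (ψ ≫ fl) ⁻¹ᵁ a.1.1) ?_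
      (fun a => a.1.2.preimage _) (fun a b => ?_) (fun a b => ?_)⟩
    · refine IsOpenCover.mk (eq_top_iff.2 fun z _ => ?_)
      obtain ⟨a, ha, hz⟩ := Set.mem_iUnion₂.1 (hs (Set.mem_univ (D.map (ψ ≫ fl) z)))
      exact TopologicalSpace.Opens.mem_iSup.2 ⟨⟨a, ha⟩, hz⟩
    · have := (hj (a, b) k (ψ ≫ gl (a, b))).1
      rwa [Category.assoc, hl] at this
    · have := (hj (a, b) k (ψ ≫ gl (a, b))).2
      rwa [Category.assoc, hl] at this
  intro A B
  -- the intersection becomes affine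
  have hW : IsAffineOpen (c.π.app i ⁻¹ᵁ (A.1 ⊓ B.1)) := by
    rw [Scheme.Hom.preimage_inf]
    exact IsAffineOpen.inf (X := c.pt) (A.2.preimage _) (B.2.preimage _)
  obtain ⟨j, φ, hj⟩ := exists_isAffineOpen_map_preimage hc
    (A.2.isCompact.inter_of_isOpen B.2.isCompact A.1.2 B.1.2) hW
  let VA := D.map φ ⁻¹ᵁ A.1
  let VB := D.map φ ⁻¹ᵁ B.1
  have hj' : IsAffineOpen (VA ⊓ VB) := hj
  let W := VA ⊓ VB
  -- the subrings
  let S : ∀ k : Over j, Subring Γ(D.obj k.left, D.map k.hom ⁻¹ᵁ W) := fun k =>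
    genInf (D.map k.hom ⁻¹ᵁ VA) (D.map k.hom ⁻¹ᵁ VB)
  have mono : ∀ {k l : Over j} (f : l ⟶ k) {x}, x ∈ S k → rs W f x ∈ S l := by
    intro k l f x hx
    suffices S k ≤ (S l).comap (rs W f).hom from this hx
    refine Subring.closure_le.2 ?_
    rintro _ (⟨a, rfl⟩ | ⟨a, rfl⟩)
    · refine Subring.subset_closure (Or.inl ⟨(D.map f.left).appLE _ _ (map_preimage_le VA f) a, ?_⟩)
      exact map_appLE_apply _ _ _ _ _ a
    · refine Subring.subset_closure (Or.inr ⟨(D.map f.left).appLE _ _ (map_preimage_le VB f) a, ?_⟩)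
      exact map_appLE_apply _ _ _ _ _ a
  have hVA : IsAffineOpen VA := A.2.preimage _
  have hVB : IsAffineOpen VB := B.2.preimage _
  have dense : ∀ x : Γ(c.pt, c.π.app j ⁻¹ᵁ W), ∃ k, ∃ y ∈ S k, πs c W k y = x := by
    refine dense_of_closure S mono (genInf_eq_top (X := c.pt) (hVA.preimage (c.π.app j))
      (hVB.preimage (c.π.app j))) ?_
    rintro _ (⟨a, rfl⟩ | ⟨a, rfl⟩)
    · obtain ⟨k, t, rfl⟩ := exists_πs_eq hc hVA a
      refine ⟨k, _, Subring.subset_closure (Or.inl ⟨t, rfl⟩), ?_⟩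
      exact (map_appLE_apply _ _ _ _ _ t).symm
    · obtain ⟨k, t, rfl⟩ := exists_πs_eq hc hVB a
      refine ⟨k, _, Subring.subset_closure (Or.inr ⟨t, rfl⟩), ?_⟩
      exact (map_appLE_apply _ _ _ _ _ t).symm
  -- finitely many generators at stage `j`
  have hft : ((D.obj j).presheaf.map (homOfLE (inf_le_left : W ≤ VA)).op).hom.FiniteType := by
    haveI : QuasiCompact (𝟙 (D.obj j)) := inferInstance
    have := HasRingHomProperty.appLE (P := @LocallyOfFiniteType) (𝟙 (D.obj j))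
      inferInstance ⟨VA, hVA⟩ ⟨W, hj'⟩ (by simp [W])
    simpa [Scheme.Hom.appLE] using this
  letI := ((D.obj j).presheaf.map (homOfLE (inf_le_left : W ≤ VA)).op).hom.toAlgebra
  obtain ⟨gens, hgens⟩ := (hft : Algebra.FiniteType Γ(D.obj j, VA) Γ(D.obj j, W)).out
  let j₀ : Over j := Over.mk (𝟙 j)
  have hid : W ≤ D.map j₀.hom ⁻¹ᵁ W := by simp [j₀]
  have hid' : D.map j₀.hom ⁻¹ᵁ W ≤ W := by simp [j₀]
  let ι₀ : Γ(D.obj j, W) ⟶ Γ(D.obj j₀.left, D.map j₀.hom ⁻¹ᵁ W) :=
    (D.obj j).presheaf.map (homOfLE hid').op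
  have hgen : ∀ (k : Over j) (f : k ⟶ j₀),
      Subring.closure ((S k : Set _) ∪ rs W f '' (ι₀ '' (gens : Set Γ(D.obj j, W)))) = ⊤ := by
    intro k f
    have H : IsPullback (D.map k.hom) (𝟙 (D.obj k.left)) (𝟙 (D.obj j)) (D.map k.hom) :=
      IsPullback.of_vert_isIso ⟨by simp⟩
    have h := closure_union_appLE_eq_top H hVA (UT := D.map k.hom ⁻¹ᵁ VA) (hVA.preimage _)
      (UX := W) hj' le_rfl (by simp [W]) (UY := D.map k.hom ⁻¹ᵁ W)
      (by simp [W, Scheme.Hom.preimage_inf])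
    rw [eq_top_iff, ← h, Subring.closure_le]
    set T := Subring.closure ((S k : Set _) ∪ rs W f '' (ι₀ '' (gens : Set Γ(D.obj j, W))))
    have hkVA : ∀ a : Γ(D.obj j, VA),
        (D.map k.hom).appLE W (D.map k.hom ⁻¹ᵁ W) le_rfl (algebraMap Γ(D.obj j, VA) _ a) ∈ S k := by
      intro a
      refine Subring.subset_closure (Or.inl ⟨(D.map k.hom).app VA a, ?_⟩)
      rw [RingHom.algebraMap_toAlgebra, Scheme.Hom.app_eq_appLE]
      exact map_appLE_apply _ _ _ _ _ a
    have hg : ∀ g ∈ gens, (D.map k.hom).appLE W (D.map k.hom ⁻¹ᵁ W) le_rfl g ∈ T := by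
      intro g hg
      refine Subring.subset_closure (Or.inr ⟨ι₀ g, ⟨g, hg, rfl⟩, ?_⟩)
      have hf : f.left = k.hom := by simpa [j₀] using Over.w f
      simp [rs, ι₀, ← ConcreteCategory.comp_apply, hf]
    rintro _ (⟨x, rfl⟩ | ⟨x, rfl⟩)
    · have hx : x ∈ Algebra.adjoin Γ(D.obj j, VA) (gens : Set Γ(D.obj j, W)) := hgens ▸ Algebra.mem_top
      induction hx using Algebra.adjoin_induction with
      | mem g hg' => exact hg g hg'
      | algebraMap a => exact Subring.subset_closure (Or.inl (hkVA a))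
      | add a b _ _ ha hb => rw [map_add]; exact add_mem ha hb
      | mul a b _ _ ha hb => rw [map_mul]; exact mul_mem ha hb
    · refine Subring.subset_closure (Or.inl (Subring.subset_closure (Or.inl ⟨x, ?_⟩)))
      simp [Scheme.Hom.appLE]
      rfl
  obtain ⟨m, -, hm⟩ := exists_forall_eq_top hc hj' S mono dense
    (s := ι₀ '' (gens : Set Γ(D.obj j, W))) (gens.finite_toSet.image _) hgen
  refine ⟨m.left, m.hom ≫ φ, fun k ψ => ?_⟩
  have h := hm (Over.mk (ψ ≫ m.hom)) (Over.homMk ψ)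
  have h' : IsAffineOpen (D.map (ψ ≫ m.hom) ⁻¹ᵁ W) := hj'.preimage _
  simp only [W, VA, VB, Scheme.Hom.preimage_inf] at h'
  simp only [S, VA, VB, Over.mk_hom, Over.mk_left] at h
  rw [← Category.assoc, D.map_comp (ψ ≫ m.hom) φ, Scheme.Hom.comp_preimage, Scheme.Hom.comp_preimage]
  exact ⟨h', h⟩

end

end Groth.Agent.LimLib
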