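import Groth.Agent.LimLib.Space
import Mathlib.AlgebraicGeometry.Morphisms.Flat
import Mathlib.RingTheory.Flat.EquationalCriterion

/-! Flatness of projections of affine limits. -/

set_option autoImplicit false
set_option backward.isDefEq.respectTransparency false
set_option backward.defeqAttrib.useBackward true

universe u

open CategoryTheory Limits AlgebraicGeometry

namespace Groth.Agent.LimLib

theorem flat_of_isColimit {A : CommRingCat.{u}} {K : Type u} [SmallCategory K] [IsFiltered K]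
    (G : K ⥤ CommRingCat.{u}) (s : Cocone G) (hs : IsColimit s) (k₀ : K) (f₀ : A ⟶ G.obj k₀)
    (hflat : ∀ (k : K) (φ : k₀ ⟶ k), (f₀ ≫ G.map φ).hom.Flat) :
    (f₀ ≫ s.ι.app k₀).hom.Flat := by
  classical
  let F : A ⟶ s.pt := f₀ ≫ s.ι.app k₀
  show F.hom.Flat
  algebraize [F.hom]
  refine Module.Flat.of_forall_isTrivialRelation fun {l f x} hfx => ?_
  have h1 (a : Fin l) := Concrete.isColimit_exists_rep G hs (x a)
  choose k y hy using h1
  obtain ⟨k₁, hk₁⟩ := IsFiltered.sup_objs_exists (insert k₀ (Finset.univ.image k))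
  obtain ⟨φ₁⟩ := hk₁ (Finset.mem_insert_self k₀ _)
  have ψ (a : Fin l) : k a ⟶ k₁ :=
    (hk₁ (Finset.mem_insert_of_mem (Finset.mem_image_of_mem k (Finset.mem_univ a)))).some
  have hw {k k' : K} (g : k ⟶ k') (z : G.obj k) : s.ι.app k' (G.map g z) = s.ι.app k z :=
    ConcreteCategory.congr_hom (s.w g) z
  have hy' (a : Fin l) : s.ι.app k₁ (G.map (ψ a) (y a)) = x a := (hw (ψ a) (y a)).trans (hy a)
  let z : G.obj k₁ := ∑ a, (f₀ ≫ G.map φ₁) (f a) * G.map (ψ a) (y a)
  have hz : s.ι.app k₁ z = s.ι.app k₁ 0 := by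
    rw [map_zero, map_sum]
    refine Eq.trans (Finset.sum_congr rfl fun a _ => ?_) hfx
    rw [map_mul, Algebra.smul_def]
    exact congrArg₂ (· * ·) (hw φ₁ (f₀ (f a))) (hy' a)
  obtain ⟨k₂, g, g', hg⟩ := Concrete.isColimit_exists_of_rep_eq.{u} G hs z 0 hz
  rw [map_zero] at hg
  let h := f₀ ≫ G.map (φ₁ ≫ g)
  algebraize [h.hom]
  have : Module.Flat A (G.obj k₂) := hflat k₂ (φ₁ ≫ g)
  obtain ⟨m, a, w, ha, hfa⟩ := Module.Flat.isTrivialRelation_of_sum_smul_eq_zero
    (R := A) (M := G.obj k₂) (f := f) (x := fun b => G.map g (G.map (ψ b) (y b))) (by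
      rw [← hg, map_sum]
      refine Finset.sum_congr rfl fun b _ => ?_
      rw [map_mul, Algebra.smul_def]
      refine congrArg₂ (· * ·) ?_ rfl
      show (f₀ ≫ G.map (φ₁ ≫ g)) (f b) = _
      simp)
  refine ⟨m, a, fun b => s.ι.app k₂ (w b), fun b => ?_, hfa⟩
  refine (((hw g _).trans (hy' b)).symm.trans (congrArg (s.ι.app k₂) (ha b))).trans ?_
  rw [map_sum]
  refine Finset.sum_congr rfl fun d _ => ?_
  rw [Algebra.smul_def, Algebra.smul_def, map_mul]
  exact congrArg₂ (· * ·) (hw (φ₁ ≫ g) (f₀ (a b d))) rfl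

variable {I : Type u} [SmallCategory I] [IsCofiltered I] {D : I ⥤ Scheme.{u}}
  [∀ {i j : I} (f : i ⟶ j), IsAffineHom (D.map f)] {c : Cone D}

/-- A projection is flat if all transition maps into its target are. -/
theorem flat_π (hc : IsLimit c) (i : I) (hf : ∀ (j : I) (φ : j ⟶ i), Flat (D.map φ)) :
    Flat (c.π.app i) := by
  rw [IsZariskiLocalAtTarget.iff_of_iSup_eq_top (P := @Flat) _
    (iSup_affineOpens_eq_top (D.obj i))]
  rintro ⟨V, hV⟩
  have (j : Over i) : IsAffine ((opensDiagram D i V).obj j) := hV.preimage (D.map j.hom)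
  have := isAffineHom_π_app D c hc i
  have : IsAffine V.toScheme := hV
  have : IsAffine (c.π.app i ⁻¹ᵁ V).toScheme := hV.preimage (c.π.app i)
  have hlim := isLimitOpensCone D c hc i V
  obtain ⟨hcol⟩ := nonempty_isColimit_Γ_mapCocone (opensDiagram D i V) (opensCone D c i V) hlim
  let t : (opensDiagram D i V).obj (Over.mk (𝟙 i)) ⟶ V.toScheme :=
    (D.map (𝟙 i)).resLE V _ le_rfl
  have e : (opensCone D c i V).π.app (Over.mk (𝟙 i)) ≫ t = c.π.app i ∣_ V := by
    simp [t, ← cancel_mono V.ι]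
  rw [HasRingHomProperty.iff_of_isAffine (P := @Flat), ← e, Scheme.Hom.comp_appTop]
  refine flat_of_isColimit _ _ hcol (.op (Over.mk (𝟙 i))) t.appTop fun k φ => ?_
  show (t.appTop ≫ ((opensDiagram D i V).map φ.unop).appTop).hom.Flat
  rw [← Scheme.Hom.comp_appTop, ← HasRingHomProperty.iff_of_isAffine (P := @Flat)]
  have e' : (opensDiagram D i V).map φ.unop ≫ t = (D.map k.unop.hom) ∣_ V := by
    have hw : φ.unop.left ≫ 𝟙 i = k.unop.hom := Over.w φ.unop
    simp [t, ← cancel_mono V.ι, ← hw]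
  rw [e']
  exact IsZariskiLocalAtTarget.restrict (hf _ _) V

end Groth.Agent.LimLib
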