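import Mathlib.AlgebraicGeometry.AffineTransitionLimit
import Mathlib.AlgebraicGeometry.Sites.SmallAffineZariski

/-! Cofiltered limits of schemes with affine transition maps exist. -/

set_option autoImplicit false
set_option backward.isDefEq.respectTransparency false
set_option backward.defeqAttrib.useBackward true

universe u

open CategoryTheory Limits AlgebraicGeometry

namespace Groth.Agent.LimLib

noncomputable section

variable {I : Type u} [SmallCategory I] [IsCofiltered I] (D : I ⥤ Scheme.{u})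
  [∀ {i j : I} (f : i ⟶ j), IsAffineHom (D.map f)] (i₀ : I)

theorem hasLimit_of_isAffine {K : Type u} [SmallCategory K] (F : K ⥤ Scheme.{u})
    [∀ k, IsAffine (F.obj k)] : HasLimit F := by
  let e : F ⟶ (F ⋙ Scheme.Γ.rightOp) ⋙ Scheme.Spec :=
    Functor.whiskerLeft F ΓSpec.adjunction.unit
  have (k : K) : IsIso (e.app k) := IsAffine.affine
  have : IsIso e := NatIso.isIso_of_isIso_app e
  have : HasLimit ((F ⋙ Scheme.Γ.rightOp) ⋙ Scheme.Spec) :=
    ⟨⟨_, isLimitOfPreserves Scheme.Spec (limit.isLimit (F ⋙ Scheme.Γ.rightOp))⟩⟩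
  exact hasLimit_of_iso (asIso e).symm

instance (U : (D.obj i₀).AffineZariskiSite) : HasLimit (opensDiagram D i₀ U.1) :=
  have (j : Over i₀) : IsAffine ((opensDiagram D i₀ U.1).obj j) := U.2.preimage (D.map j.hom)
  hasLimit_of_isAffine _

/-- Inclusion of restricted diagrams. -/
def opensTrans {U V : (D.obj i₀).Opens} (h : U ≤ V) :
    opensDiagram D i₀ U ⟶ opensDiagram D i₀ V where
  app j := (D.obj j.left).homOfLE ((D.map j.hom).preimage_mono h)
  naturality j k f := by
    rw [← cancel_mono (Scheme.Opens.ι _)]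
    simp

/-- The map from a stage of the restricted diagram to the open set. -/
def toU (U : (D.obj i₀).Opens) :
    (opensDiagram D i₀ U).obj (Over.mk (𝟙 i₀)) ⟶ U.toScheme :=
  (D.map (𝟙 i₀)).resLE U _ le_rfl

omit [IsCofiltered I] [∀ {i j : I} (f : i ⟶ j), IsAffineHom (D.map f)] in
@[reassoc]
theorem toU_ι (U : (D.obj i₀).Opens) :
    toU D i₀ U ≫ U.ι = (D.map (𝟙 i₀) ⁻¹ᵁ U).ι ≫ D.map (𝟙 i₀) := by
  rw [toU, Scheme.Hom.resLE_comp_ι]
  rfl

/-- Structure map of the local limit. -/
def locMap (U : (D.obj i₀).AffineZariskiSite) : limit (opensDiagram D i₀ U.1) ⟶ U.1.toScheme :=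
  limit.π _ (Over.mk (𝟙 i₀)) ≫ toU D i₀ U.1

@[reassoc]
theorem π_ι_map (U : (D.obj i₀).AffineZariskiSite) (j : Over i₀) :
    limit.π (opensDiagram D i₀ U.1) j ≫ (D.map j.hom ⁻¹ᵁ U.1).ι ≫ D.map j.hom =
      locMap D i₀ U ≫ U.1.ι := by
  rw [locMap, Category.assoc, toU_ι, ← limit.w (opensDiagram D i₀ U.1)
    (Over.homMk j.hom (by simp) : j ⟶ Over.mk (𝟙 i₀))]
  simp

@[reassoc]
theorem limMap_locMap {U V : (D.obj i₀).AffineZariskiSite} (h : U.1 ≤ V.1) :
    limMap (opensTrans D i₀ h) ≫ locMap D i₀ V =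
      locMap D i₀ U ≫ (D.obj i₀).homOfLE h := by
  rw [← cancel_mono V.1.ι, Category.assoc, Category.assoc, Scheme.homOfLE_ι,
    ← π_ι_map D i₀ U (Over.mk (𝟙 i₀)), locMap, Category.assoc, toU_ι, limMap_π_assoc]
  simp [opensTrans]

theorem isPullback_limMap {U V : (D.obj i₀).AffineZariskiSite} (h : U.1 ≤ V.1) :
    IsPullback (limMap (opensTrans D i₀ h)) (locMap D i₀ U) (locMap D i₀ V)
      ((D.obj i₀).homOfLE h) := by
  refine ⟨⟨limMap_locMap D i₀ h⟩, ⟨PullbackCone.IsLimit.mk _ (fun s => ?_) ?_ ?_ ?_⟩⟩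
  · have hr (j : Over i₀) :
        Set.range ⇑(s.fst ≫ limit.π _ j ≫ (D.map j.hom ⁻¹ᵁ V.1).ι) ⊆
          Set.range ⇑((D.map j.hom ⁻¹ᵁ U.1).ι) := by
      rintro _ ⟨x, rfl⟩
      rw [Scheme.Opens.range_ι]
      show _ ∈ U.1
      rw [← Scheme.Hom.comp_apply, Category.assoc, Category.assoc, π_ι_map, s.condition_assoc,
        Scheme.homOfLE_ι, Scheme.Hom.comp_apply]
      exact (s.snd x).2
    exact limit.lift _
      { pt := s.pt
        π :=
          { app j := IsOpenImmersion.lift (D.map j.hom ⁻¹ᵁ U.1).ι _ (hr j)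
            naturality j k f := by
              refine (cancel_mono (D.map k.hom ⁻¹ᵁ U.1).ι).1 ?_
              simp only [Functor.const_obj_obj, Functor.const_obj_map, Category.id_comp,
                opensDiagram_map, Category.assoc, Scheme.Hom.resLE_comp_ι]
              rw [IsOpenImmersion.lift_fac, IsOpenImmersion.lift_fac_assoc, Category.assoc,
                Category.assoc, ← limit.w (opensDiagram D i₀ V.1) f, opensDiagram_map]
              simp } }
  · intro s
    refine limit.hom_ext fun j => ?_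
    rw [← cancel_mono (D.map j.hom ⁻¹ᵁ V.1).ι]
    simp [opensTrans]
  · intro s
    rw [← cancel_mono U.1.ι, Category.assoc, ← π_ι_map D i₀ U (Over.mk (𝟙 i₀)),
      limit.lift_π_assoc]
    dsimp
    rw [IsOpenImmersion.lift_fac_assoc, Category.assoc, Category.assoc]
    erw [π_ι_map D i₀ V (Over.mk (𝟙 i₀))]
    rw [s.condition_assoc, Scheme.homOfLE_ι]
  · intro s m h1 _
    refine limit.hom_ext fun j => ?_
    rw [← cancel_mono (D.map j.hom ⁻¹ᵁ U.1).ι, limit.lift_π]
    dsimp
    rw [IsOpenImmersion.lift_fac, ← h1]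
    simp [opensTrans]

/-- The gluing datum of the local limits. -/
def glueData : (Scheme.AffineZariskiSite.directedCover (D.obj i₀)).RelativeGluingData where
  functor :=
    { obj U := limit (opensDiagram D i₀ U.1)
      map {U V} f := limMap (opensTrans D i₀ (Scheme.AffineZariskiSite.toOpens_mono f.le))
      map_id U := by
        refine limit.hom_ext fun j => ?_
        rw [← cancel_mono (D.map j.hom ⁻¹ᵁ U.1).ι]
        simp [opensTrans]
      map_comp {U V W} f g := by
        refine limit.hom_ext fun j => ?_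
        rw [← cancel_mono (D.map j.hom ⁻¹ᵁ W.1).ι]
        simp [opensTrans] }
  natTrans :=
    { app U := locMap D i₀ U
      naturality U V f := limMap_locMap D i₀ (Scheme.AffineZariskiSite.toOpens_mono f.le) }
  equifibered U V f := isPullback_limMap D i₀ (Scheme.AffineZariskiSite.toOpens_mono f.le)

instance : (glueData D i₀).functor ⋙ Scheme.forget |>.IsLocallyDirected :=
  Scheme.Cover.RelativeGluingData.instIsLocallyDirectedI₀CompFunctorForgetOfIsThin ..

/-- The projections of the glued limit. -/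
def proj (j : Over i₀) : (glueData D i₀).glued ⟶ D.obj j.left :=
  colimit.desc _
    { pt := D.obj j.left
      ι :=
        { app U := limit.π (opensDiagram D i₀ U.1) j ≫ (D.map j.hom ⁻¹ᵁ U.1).ι
          naturality U V f := by simp [glueData, opensTrans] } }

@[reassoc]
theorem ι_proj (j : Over i₀) (U : (D.obj i₀).AffineZariskiSite) :
    colimit.ι (glueData D i₀).functor U ≫ proj D i₀ j =
      limit.π (opensDiagram D i₀ U.1) j ≫ (D.map j.hom ⁻¹ᵁ U.1).ι :=
  colimit.ι_desc _ _

theorem proj_map (j : Over i₀) : proj D i₀ j ≫ D.map j.hom = (glueData D i₀).toBase := by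
  refine colimit.hom_ext fun U => ?_
  rw [ι_proj_assoc, π_ι_map, Scheme.Cover.RelativeGluingData.ι_toBase]
  rfl

/-- The cone of the glued limit over the diagram above `i₀`. -/
def cone : Cone (Over.forget i₀ ⋙ D) where
  pt := (glueData D i₀).glued
  π :=
    { app j := proj D i₀ j
      naturality j k f := by
        simp only [Functor.const_obj_obj, Functor.const_obj_map, Category.id_comp,
          Functor.comp_map, Over.forget_map]
        refine colimit.hom_ext fun U => ?_
        rw [ι_proj_assoc, ι_proj, ← limit.w (opensDiagram D i₀ U.1) f, opensDiagram_map]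
        simp }

theorem hom_ext_glued {T : Scheme.{u}} (m m' : T ⟶ (glueData D i₀).glued)
    (h : ∀ j, m ≫ proj D i₀ j = m' ≫ proj D i₀ j) : m = m' := by
  let g := m ≫ (glueData D i₀).toBase
  have hg : m' ≫ (glueData D i₀).toBase = g := by
    simp only [g, ← proj_map D i₀ (Over.mk (𝟙 i₀)), ← Category.assoc, h]
  refine (T.openCoverOfIsOpenCover (fun U : (D.obj i₀).affineOpens => g ⁻¹ᵁ U.1)
    (.comap (iSup_affineOpens_eq_top (D.obj i₀)) g.base.1)).hom_ext _ _ fun U => ?_
  show (g ⁻¹ᵁ U.1).ι ≫ m = (g ⁻¹ᵁ U.1).ι ≫ m'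
  have P := (glueData D i₀).isPullback_natTrans_ι_toBase U
  obtain ⟨k, hk⟩ : ∃ k, k ≫ colimit.ι (glueData D i₀).functor U = (g ⁻¹ᵁ U.1).ι ≫ m :=
    ⟨P.lift (g ∣_ U.1) _ (by simp [g]), P.lift_snd _ _ _⟩
  obtain ⟨k', hk'⟩ : ∃ k', k' ≫ colimit.ι (glueData D i₀).functor U = (g ⁻¹ᵁ U.1).ι ≫ m' :=
    ⟨P.lift (g ∣_ U.1) _ (by simp [hg]), P.lift_snd _ _ _⟩
  rw [← hk, ← hk']
  congr 1
  refine limit.hom_ext fun j => ?_
  rw [← cancel_mono (D.map j.hom ⁻¹ᵁ U.1).ι, Category.assoc, Category.assoc, ← ι_proj,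
    reassoc_of% hk, reassoc_of% hk', h]

/-- The glued cone is a limit. -/
def isLimitCone : IsLimit (cone D i₀) := by
  have key (s : Cone (Over.forget i₀ ⋙ D)) : ∃ l : s.pt ⟶ (glueData D i₀).glued,
      ∀ j, l ≫ proj D i₀ j = s.π.app j := by
    let g : s.pt ⟶ D.obj i₀ := s.π.app (Over.mk (𝟙 i₀))
    have hg (j : Over i₀) : s.π.app j ≫ D.map j.hom = g :=
      s.w (Over.homMk j.hom (by simp) : j ⟶ Over.mk (𝟙 i₀))
    let 𝒱 := s.pt.openCoverOfIsOpenCover
      (fun U : (D.obj i₀).affineOpens => g ⁻¹ᵁ U.1)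
      (.comap (iSup_affineOpens_eq_top (D.obj i₀)) g.base.1)
    let a (U : (D.obj i₀).AffineZariskiSite) :
        (g ⁻¹ᵁ U.1).toScheme ⟶ limit (opensDiagram D i₀ U.1) :=
      limit.lift (opensDiagram D i₀ U.1)
        { pt := (g ⁻¹ᵁ U.1).toScheme
          π :=
            { app j := (s.π.app j).resLE (D.map j.hom ⁻¹ᵁ U.1) (g ⁻¹ᵁ U.1)
                (by rw [← Scheme.Hom.comp_preimage, hg])
              naturality j k f := by
                refine (cancel_mono (D.map k.hom ⁻¹ᵁ U.1).ι).1 ?_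
                simp only [Functor.const_obj_obj, Functor.const_obj_map, Category.id_comp,
                  opensDiagram_map, Category.assoc, Scheme.Hom.resLE_comp_ι,
                  Scheme.Hom.resLE_comp_ι_assoc]
                rw [← s.w f]
                rfl } }
    let b (U : (D.obj i₀).AffineZariskiSite) :
        (g ⁻¹ᵁ U.1).toScheme ⟶ (glueData D i₀).glued :=
      a U ≫ colimit.ι (glueData D i₀).functor U
    have hb (U : (D.obj i₀).AffineZariskiSite) (j : Over i₀) :
        b U ≫ proj D i₀ j = (g ⁻¹ᵁ U.1).ι ≫ s.π.app j := by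
      refine (Category.assoc _ _ _).trans
        ((congrArg (a U ≫ ·) (ι_proj D i₀ j U)).trans ((limit.lift_π_assoc _ _ _).trans ?_))
      exact Scheme.Hom.resLE_comp_ι _ _
    refine ⟨𝒱.glueMorphisms b fun U V => hom_ext_glued D i₀ _ _ fun j => ?_, fun j => ?_⟩
    · simp only [Category.assoc]
      refine (congrArg (pullback.fst _ _ ≫ ·) (hb U j)).trans
        (Eq.trans ?_ (congrArg (pullback.snd _ _ ≫ ·) (hb V j)).symm)
      exact (Category.assoc _ _ _).symm.trans
        ((congrArg (· ≫ s.π.app j) pullback.condition).trans (Category.assoc _ _ _))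
    · refine 𝒱.hom_ext _ _ fun U => ?_
      rw [Scheme.Cover.ι_glueMorphisms_assoc]
      exact hb U j
  choose l hl using key
  exact
    { lift := l
      fac := hl
      uniq := fun s m hm => hom_ext_glued D i₀ _ _ fun j => (hm j).trans (hl s j).symm }

/-- A cofiltered diagram of schemes with affine transition maps has a limit. -/
theorem hasLimit_of_isAffineHom : HasLimit D := by
  obtain ⟨i₀⟩ := IsCofiltered.nonempty (C := I)
  exact ⟨⟨_, (Functor.Initial.isLimitExtendConeEquiv (Over.forget i₀) (cone D i₀)).symm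
    (isLimitCone D i₀)⟩⟩

end

end Groth.Agent.LimLib
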