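import Groth.Agent.LimLib.Space

/-! Residue fields of a limit of schemes. -/

set_option autoImplicit false
set_option backward.isDefEq.respectTransparency false
set_option backward.defeqAttrib.useBackward true

universe u

open CategoryTheory Limits AlgebraicGeometry

namespace Groth.Agent.LimLib

noncomputable section

variable {I : Type u} [SmallCategory I] [IsCofiltered I] {D : I ⥤ Scheme.{u}}
  [∀ {i j : I} (f : i ⟶ j), IsAffineHom (D.map f)] {c : Cone D}

omit [∀ {i j : I} (f : i ⟶ j), IsAffineHom (D.map f)] in
theorem isField_resLimit (x : ∀ i, D.obj i) (hx : ∀ {i j : I} (f : i ⟶ j), D.map f (x i) = x j) :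
    IsField (limit (resDiagram D x hx)).unop := by
  let R := resDiagram D x hx
  have hcol := isColimitCoconeLeftOpOfCone R (limit.isLimit R)
  have h0 (k : Iᵒᵖ) : Nontrivial (R.leftOp.obj k) :=
    inferInstanceAs (Nontrivial ((D.obj k.unop).residueField (x k.unop)))
  have : Nontrivial (limit R).unop := CommRingCat.FilteredColimits.nontrivial hcol
  refine ⟨exists_pair_ne _, mul_comm, fun {a} ha => ?_⟩
  obtain ⟨k, b, rfl⟩ := Concrete.isColimit_exists_rep R.leftOp hcol a
  have hb : b ≠ 0 := fun h => ha (by rw [h, map_zero])
  have hF : IsField (R.leftOp.obj k) := Field.toIsField ((D.obj k.unop).residueField (x k.unop))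
  obtain ⟨b', hb'⟩ := hF.mul_inv_cancel hb
  exact ⟨(coconeLeftOpOfCone (limit.cone R)).ι.app k b', by
    exact ((map_mul ((coconeLeftOpOfCone (limit.cone R)).ι.app k).hom b b').symm.trans
      (congrArg _ hb')).trans (map_one _)⟩

/-- The residue field of a point of the limit is the union of those of its images. -/
theorem exists_residueFieldMap_eq (hc : IsLimit c) (s : c.pt) (a : c.pt.residueField s) :
    ∃ (i : I) (b : (D.obj i).residueField (c.π.app i s)), (c.π.app i).residueFieldMap s b = a := by
  let x (i : I) : D.obj i := c.π.app i s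
  have hx {i j : I} (f : i ⟶ j) : D.map f (x i) = x j :=
    congrArg (fun g : c.pt ⟶ D.obj j => g s) (c.w f)
  let R := resDiagram D x hx
  let L : CommRingCat.{u} := (limit R).unop
  letI : Field L := (isField_resLimit x hx).toField
  let μ : Spec L ⟶ c.pt := hc.lift ((Cone.postcompose (resToDiagram D x hx)).obj (resCone D x hx))
  have hμ (i : I) : μ ≫ c.π.app i =
      Spec.map (limit.π R i).unop ≫ (D.obj i).fromSpecResidueField (x i) :=
    hc.fac _ i
  have hμs (p : Spec L) : μ p = s := ext_of_forall_π hc fun i =>
    ((Scheme.Hom.comp_apply μ (c.π.app i) p).symm.trans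
      (congrArg (fun g : Spec L ⟶ D.obj i => g p) (hμ i))).trans
      ((Scheme.Hom.comp_apply _ _ p).trans (Scheme.fromSpecResidueField_apply _ _))
  let ν : c.pt.residueField s ⟶ L :=
    (c.pt.residueFieldCongr (hμs (IsLocalRing.closedPoint L)).symm).hom ≫
      c.pt.descResidueField (Scheme.stalkClosedPointTo μ)
  have hν : Spec.map ν ≫ c.pt.fromSpecResidueField s = μ := by
    simp only [ν, Spec.map_comp, Category.assoc]
    simp only [← Category.assoc]
    simp
    exact Scheme.descResidueField_stalkClosedPointTo_fromSpecResidueField L c.pt μ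
  let s' : Cone R :=
    { pt := .op (c.pt.residueField s)
      π :=
        { app := fun i => ((c.π.app i).residueFieldMap s).op
          naturality := fun i j f => by
            refine Quiver.Hom.unop_inj (Spec.map_injective ?_)
            rw [← cancel_mono ((D.obj j).fromSpecResidueField (x j))]
            simp [R, resDiagram, x] } }
  let r : L ⟶ c.pt.residueField s := (limit.lift R s').unop
  have hr (i : I) : (limit.π R i).unop ≫ r = (c.π.app i).residueFieldMap s :=
    congrArg Quiver.Hom.unop (limit.lift_π s' i)
  have key : ν ≫ r = 𝟙 _ := by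
    refine Spec.map_injective ((cancel_mono (c.pt.fromSpecResidueField s)).1 ?_)
    rw [Spec.map_comp, Category.assoc, hν, Spec.map_id, Category.id_comp]
    refine hc.hom_ext fun i => ?_
    rw [Category.assoc, hμ, ← Category.assoc, ← Spec.map_comp, hr]
    exact Scheme.Hom.SpecMap_residueFieldMap_fromSpecResidueField _ _
  obtain ⟨k, b, hb⟩ := Concrete.isColimit_exists_rep R.leftOp
    (isColimitCoconeLeftOpOfCone R (limit.isLimit R)) (ν a)
  refine ⟨k.unop, b, ?_⟩
  have := congrArg r hb
  rw [show r (ν a) = a from ConcreteCategory.congr_hom key a] at this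
  rw [← hr]
  exact this

end

end Groth.Agent.LimLib
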