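import Groth.Agent.LimLib.HasLimit
import Mathlib.AlgebraicGeometry.Morphisms.UnderlyingMap
import Mathlib.AlgebraicGeometry.PullbackCarrier

/-! The underlying space of a limit of schemes with affine transition maps. -/

set_option autoImplicit false
set_option backward.isDefEq.respectTransparency false
set_option backward.defeqAttrib.useBackward true

universe u

open CategoryTheory Limits AlgebraicGeometry TopologicalSpace Topology

namespace Groth.Agent.LimLib

noncomputable section

variable {I : Type u} [SmallCategory I] [IsCofiltered I] {D : I ⥤ Scheme.{u}}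
  [∀ {i j : I} (f : i ⟶ j), IsAffineHom (D.map f)] {c : Cone D} (hc : IsLimit c)

include hc

theorem induced_π_eq :
    (inferInstance : TopologicalSpace c.pt) =
      ⨅ i, (inferInstance : TopologicalSpace (D.obj i)).induced (c.π.app i) := by
  refine le_antisymm (le_iInf fun i => (c.π.app i).continuous.le_induced) ?_
  intro U hU
  refine (@isOpen_iff_forall_mem_open _ (⨅ i, TopologicalSpace.induced (⇑(c.π.app i)) inferInstance)
    U).2 fun x hx => ?_
  obtain ⟨_, ⟨_, ⟨i, V, -, rfl⟩, rfl⟩, hxW, hWU⟩ :=
    (isBasis_preimage_isAffineOpen D c hc).exists_subset_of_mem_open hx hU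
  let τ (k : I) : TopologicalSpace c.pt :=
    TopologicalSpace.induced (fun p : c.pt => (c.π.app k).base p) inferInstance
  have key : IsOpen[⨅ k, τ k] ((fun p : c.pt => (c.π.app i).base p) ⁻¹' (V : Set (D.obj i))) :=
    (iInf_le τ i : ⨅ k, τ k ≤ τ i) _ ⟨_, V.2, rfl⟩
  exact ⟨_, hWU, key, hxW⟩

theorem ext_of_forall_π {s t : c.pt} (h : ∀ i, c.π.app i s = c.π.app i t) : s = t := by
  refine Inseparable.eq ((isBasis_preimage_isAffineOpen D c hc).inseparable_iff.2 ?_)
  rintro _ ⟨_, ⟨i, V, -, rfl⟩, rfl⟩
  show c.π.app i s ∈ V ↔ c.π.app i t ∈ V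
  rw [h i]

omit hc

section Residue

variable (D) (x : ∀ i, D.obj i) (hx : ∀ {i j : I} (f : i ⟶ j), D.map f (x i) = x j)

omit [IsCofiltered I] [∀ {i j : I} (f : i ⟶ j), IsAffineHom (D.map f)] in
theorem resMap_comp_from {i j : I} (f : i ⟶ j) :
    Spec.map (((D.obj j).residueFieldCongr (hx f).symm).hom ≫ (D.map f).residueFieldMap (x i)) ≫
        (D.obj j).fromSpecResidueField (x j) =
      (D.obj i).fromSpecResidueField (x i) ≫ D.map f := by
  simp

/-- The residue fields along a compatible family of points. -/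
def resDiagram : I ⥤ CommRingCat.{u}ᵒᵖ where
  obj i := .op ((D.obj i).residueField (x i))
  map {i j} f :=
    (((D.obj j).residueFieldCongr (hx f).symm).hom ≫ (D.map f).residueFieldMap (x i)).op
  map_id i := by
    refine Quiver.Hom.unop_inj (Spec.map_injective ?_)
    rw [← cancel_mono ((D.obj i).fromSpecResidueField (x i))]
    exact (resMap_comp_from D x hx (𝟙 i)).trans (by simp)
  map_comp {i j k} f g := by
    refine Quiver.Hom.unop_inj (Spec.map_injective ?_)
    rw [← cancel_mono ((D.obj k).fromSpecResidueField (x k))]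
    refine (resMap_comp_from D x hx (f ≫ g)).trans ?_
    simp only [unop_comp, Quiver.Hom.unop_op]
    rw [Spec.map_comp, Category.assoc]
    erw [resMap_comp_from D x hx g, ← Category.assoc, resMap_comp_from D x hx f]
    simp

/-- The natural map from the spectra of residue fields. -/
def resToDiagram : resDiagram D x hx ⋙ Scheme.Spec ⟶ D where
  app i := (D.obj i).fromSpecResidueField (x i)
  naturality i j f := resMap_comp_from D x hx f

/-- The limit of the spectra of residue fields. -/
def resCone : Cone (resDiagram D x hx ⋙ Scheme.Spec) :=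
  Scheme.Spec.mapCone (limit.cone (resDiagram D x hx))

/-- `resCone` is limiting. -/
def isLimitResCone : IsLimit (resCone D x hx) :=
  isLimitOfPreserves Scheme.Spec (limit.isLimit _)

end Residue

include hc

theorem exists_π_eq (x : ∀ i, D.obj i) (hx : ∀ {i j : I} (f : i ⟶ j), D.map f (x i) = x j) :
    ∃ s : c.pt, ∀ i, c.π.app i s = x i := by
  let D' := resDiagram D x hx ⋙ Scheme.Spec
  have (i : I) : IsAffine (D'.obj i) := by dsimp [D', resDiagram]; infer_instance
  have (i : I) : CompactSpace (D'.obj i) := inferInstance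
  have (i : I) : Nonempty (D'.obj i) :=
    inferInstanceAs (Nonempty (Spec ((D.obj i).residueField (x i))))
  have {i j : I} (f : i ⟶ j) : IsAffineHom (D'.map f) := inferInstance
  obtain ⟨p⟩ := Scheme.nonempty_of_isLimit D' (resCone D x hx) (isLimitResCone D x hx)
  let l := hc.lift ((Cone.postcompose (resToDiagram D x hx)).obj (resCone D x hx))
  refine ⟨l p, fun i => ?_⟩
  have e : l ≫ c.π.app i = (resCone D x hx).π.app i ≫ (D.obj i).fromSpecResidueField (x i) :=
    hc.fac _ i
  exact ((Scheme.Hom.comp_apply l (c.π.app i) p).symm.trans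
    (congrArg (fun g : _ ⟶ D.obj i => g p) e)).trans
    ((Scheme.Hom.comp_apply _ _ p).trans (Scheme.fromSpecResidueField_apply _ _))

/-- The underlying space of the limit is the limit of the underlying spaces. -/
theorem isLimit_forgetToTop : Nonempty (IsLimit (Scheme.forgetToTop.mapCone c)) := by
  have key (s : Cone (D ⋙ Scheme.forgetToTop)) (t : s.pt) :
      ∃ p : c.pt, ∀ i, c.π.app i p = s.π.app i t :=
    exists_π_eq hc (fun i => s.π.app i t) fun f => ConcreteCategory.congr_hom (s.w f) t
  choose l hl using key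
  have hcont (s : Cone (D ⋙ Scheme.forgetToTop)) : Continuous (l s) := by
    suffices h : @Continuous s.pt c.pt _ (⨅ i, TopologicalSpace.induced (⇑(c.π.app i)) inferInstance)
        (l s) by rwa [← induced_π_eq hc] at h
    refine continuous_iInf_rng.2 fun i => continuous_induced_rng.2 ?_
    have e : ⇑(c.π.app i) ∘ l s = ⇑(s.π.app i) := funext fun t => hl s t i
    rw [e]
    exact (s.π.app i).hom.continuous
  exact ⟨
    { lift := fun s => TopCat.ofHom ⟨l s, hcont s⟩
      fac := fun s i => TopCat.ext fun t => hl s t i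
      uniq := fun s m hm => TopCat.ext fun t => ext_of_forall_π hc fun i =>
        (ConcreteCategory.congr_hom (hm i) t).trans (hl s t i).symm }⟩

/-- If a base change to the limit is empty, then so is the base change to some stage. -/
theorem exists_isEmpty_pullback {i : I} {T : Scheme.{u}} (a : T ⟶ D.obj i) [CompactSpace T]
    (h : IsEmpty ↥(pullback a (c.π.app i))) :
    ∃ (j : I) (φ : j ⟶ i), IsEmpty ↥(pullback a (D.map φ)) := by
  by_contra! H
  let F := Over.post D ⋙ Over.pullback a ⋙ Over.forget _
  have hA (j : Over i) : IsAffineHom (pullback.snd (D.map j.hom) a) :=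
    MorphismProperty.pullback_snd _ _ inferInstance
  have (j : Over i) : CompactSpace (F.obj j) :=
    QuasiCompact.compactSpace_of_compactSpace (pullback.snd (D.map j.hom) a)
  have (j : Over i) : Nonempty (F.obj j) :=
    (H j.left j.hom).map (pullbackSymmetry a (D.map j.hom)).hom
  have {j k : Over i} (f : j ⟶ k) : IsAffineHom (F.map f) := by
    have e : F.map f ≫ pullback.snd (D.map k.hom) a = pullback.snd (D.map j.hom) a := by
      simp [F]
    have : IsAffineHom (F.map f ≫ pullback.snd (D.map k.hom) a) := by rw [e]; exact hA j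
    exact .of_comp _ (pullback.snd (D.map k.hom) a)
  have := hasLimit_of_isAffineHom F
  obtain ⟨p⟩ := Scheme.nonempty_of_isLimit F _ (limit.isLimit F)
  let α : F ⟶ Over.forget _ ⋙ D := Functor.whiskerRight
    (Functor.whiskerLeft (Over.post D) (Over.mapPullbackAdj a).counit) (Over.forget _)
  let l := ((Functor.Initial.isLimitWhiskerEquiv (Over.forget i) c).symm hc).lift
    ((Cone.postcompose α).obj (limit.cone F))
  have el : l ≫ c.π.app i = limit.π F (Over.mk (𝟙 i)) ≫ pullback.fst (D.map (𝟙 i)) a :=
    ((Functor.Initial.isLimitWhiskerEquiv (Over.forget i) c).symm hc).fac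
      ((Cone.postcompose α).obj (limit.cone F)) (Over.mk (𝟙 i))
  refine h.false ((pullback.lift (limit.π F (Over.mk (𝟙 i)) ≫ pullback.snd (D.map (𝟙 i)) a) l ?_) p)
  rw [el, Category.assoc, ← pullback.condition]
  simp

theorem range_π_eq (i : I) :
    Set.range ⇑(c.π.app i) = ⋂ (j : I) (φ : j ⟶ i), Set.range ⇑(D.map φ) := by
  refine subset_antisymm (Set.subset_iInter₂ fun j φ => ?_) fun x hx => by_contra fun hx' => ?_
  · rw [← c.w φ]
    rintro _ ⟨s, rfl⟩
    exact ⟨c.π.app j s, rfl⟩
  have h : IsEmpty ↥(pullback ((D.obj i).fromSpecResidueField x) (c.π.app i)) := ⟨fun p => hx'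
    ⟨pullback.snd ((D.obj i).fromSpecResidueField x) (c.π.app i) p, by
      rw [← Scheme.Hom.comp_apply, ← pullback.condition, Scheme.Hom.comp_apply,
        Scheme.fromSpecResidueField_apply]⟩⟩
  obtain ⟨j, φ, hj⟩ := exists_isEmpty_pullback hc _ h
  obtain ⟨y, hy⟩ := Set.mem_iInter₂.1 hx j φ
  have : Nonempty ↥(Spec ((D.obj i).residueField x)) := inferInstance
  obtain ⟨p⟩ := this
  obtain ⟨q, -, -⟩ := Scheme.Pullback.exists_preimage_pullback
    (f := (D.obj i).fromSpecResidueField x) (g := D.map φ) p y
    (by rw [Scheme.fromSpecResidueField_apply, hy])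
  exact hj.false q

theorem surjective_π_iff (i : I) :
    Surjective (c.π.app i) ↔ ∀ (j : I) (φ : j ⟶ i), Surjective (D.map φ) := by
  simp only [surjective_iff, ← Set.range_eq_univ, range_π_eq hc, Set.iInter_eq_univ]

theorem isDominant_π_iff (i : I) :
    IsDominant (c.π.app i) ↔ ∀ (j : I) (φ : j ⟶ i), IsDominant (D.map φ) := by
  refine ⟨fun h j φ => ?_, fun h => ⟨?_⟩⟩
  · rw [← c.w φ] at h
    exact IsDominant.of_comp (c.π.app j) (D.map φ)
  rw [DenseRange, dense_iff_inter_open]
  intro W hW ⟨x, hxW⟩
  obtain ⟨_, ⟨V, hV, rfl⟩, hxV, hVW⟩ :=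
    (D.obj i).isBasis_affineOpens.exists_subset_of_mem_open hxW hW
  have (j : Over i) : Nonempty ((opensDiagram D i V).obj j) := by
    obtain ⟨z, hz, y, rfl⟩ := (h j.left j.hom).denseRange.inter_open_nonempty V V.2 ⟨x, hxV⟩
    exact ⟨⟨y, hz⟩⟩
  have (j : Over i) : CompactSpace ((opensDiagram D i V).obj j) :=
    isCompact_iff_compactSpace.mp (IsAffineOpen.preimage hV (D.map j.hom)).isCompact
  obtain ⟨s⟩ := Scheme.nonempty_of_isLimit _ _ (isLimitOpensCone D c hc i V)
  exact ⟨_, hVW s.2, s.1, rfl⟩

omit hc

end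

end Groth.Agent.LimLib
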