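import Groth.Agent.LimLib.Space
import Mathlib.AlgebraicGeometry.Stalk
import Mathlib.AlgebraicGeometry.Morphisms.Preimmersion

/-! The spectrum of a local ring as the limit of the affine neighbourhoods. -/

set_option autoImplicit false
set_option backward.isDefEq.respectTransparency false
set_option backward.defeqAttrib.useBackward true
set_option linter.style.haveILetI false

universe u

open CategoryTheory Limits AlgebraicGeometry TopologicalSpace

namespace Groth.Agent.LimLib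

noncomputable section

variable (X : Scheme.{u}) (x : X)

/-- Affine open neighbourhoods of a point. -/
abbrev AffNhd : Type u := {W : X.affineOpens // x ∈ (W : X.Opens)}

instance : Nonempty (AffNhd X x) := by
  obtain ⟨_, ⟨W, hW, rfl⟩, hxW, -⟩ :=
    X.isBasis_affineOpens.exists_subset_of_mem_open (Set.mem_univ x) isOpen_univ
  exact ⟨⟨⟨W, hW⟩, hxW⟩⟩

theorem exists_affNhd_le (U : X.Opens) (hxU : x ∈ U) :
    ∃ W : AffNhd X x, W.1.1 ≤ U := by
  obtain ⟨_, ⟨W, hW, rfl⟩, hxW, hWU⟩ :=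
    X.isBasis_affineOpens.exists_subset_of_mem_open hxU U.2
  exact ⟨⟨⟨W, hW⟩, hxW⟩, hWU⟩

instance : IsCodirectedOrder (AffNhd X x) :=
  ⟨fun V W => by
    obtain ⟨T, hT⟩ := exists_affNhd_le X x (V.1.1 ⊓ W.1.1) ⟨V.2, W.2⟩
    exact ⟨T, hT.trans inf_le_left, hT.trans inf_le_right⟩⟩

/-- The diagram of affine neighbourhoods. -/
def nhdDiagram : AffNhd X x ⥤ Scheme.{u} where
  obj W := W.1.1.toScheme
  map {V W} f := X.homOfLE (leOfHom f)

instance (W : AffNhd X x) : IsAffine ((nhdDiagram X x).obj W) := W.1.2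

instance {V W : AffNhd X x} (f : V ⟶ W) : IsAffineHom ((nhdDiagram X x).map f) := inferInstance

/-- The cone of `Spec 𝒪_{X,x}` over the affine neighbourhoods. -/
def nhdCone : Cone (nhdDiagram X x) where
  pt := Spec (X.presheaf.stalk x)
  π :=
    { app := fun W => W.1.1.fromSpecStalkOfMem x W.2
      naturality := fun V W f => by
        simp [nhdDiagram, ← cancel_mono W.1.1.ι] }

theorem π_ι (W : AffNhd X x) : (nhdCone X x).π.app W ≫ W.1.1.ι = X.fromSpecStalk x :=
  Scheme.Opens.fromSpecStalkOfMem_ι _ _ _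

variable {X x}

theorem exists_fromSpecStalk_eq {T : Scheme.{u}} (g : T ⟶ X)
    (h : ∀ W : AffNhd X x, g ⁻¹ᵁ W.1.1 = ⊤) : ∃ m : T ⟶ Spec (X.presheaf.stalk x),
      m ≫ X.fromSpecStalk x = g := by
  obtain ⟨⟨⟨W, hW⟩, hxW⟩⟩ := (inferInstance : Nonempty (AffNhd X x))
  have hgW : (⊤ : T.Opens) ≤ g ⁻¹ᵁ W := (h ⟨⟨W, hW⟩, hxW⟩).ge
  let φ := g.appLE W ⊤ hgW
  letI : Algebra Γ(X, W) (X.presheaf.stalk x) := TopCat.Presheaf.algebra_section_stalk X.presheaf ⟨x, hxW⟩
  haveI := hW.isLocalization_stalk ⟨x, hxW⟩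
  have hunit : ∀ f : (hW.primeIdealOf ⟨x, hxW⟩).asIdeal.primeCompl, IsUnit (φ.hom f) := by
    rintro ⟨f, hf⟩
    have hxf : x ∈ X.basicOpen f := (X.mem_basicOpen f x hxW).2 <|
      IsLocalization.map_units (X.presheaf.stalk x)
        (⟨f, hf⟩ : (hW.primeIdealOf ⟨x, hxW⟩).asIdeal.primeCompl)
    have hle : (⊤ : T.Opens) ≤ g ⁻¹ᵁ X.basicOpen f :=
      (h ⟨⟨X.basicOpen f, hW.basicOpen f⟩, hxf⟩).ge
    have hu := (RingedSpace.isUnit_res_basicOpen X.toRingedSpace f).map (g.appLE (X.basicOpen f) ⊤ hle).hom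
    convert hu using 1
    show φ f = g.appLE (X.basicOpen f) ⊤ hle (X.presheaf.map (homOfLE (X.basicOpen_le f)).op f)
    simp [φ, ← ConcreteCategory.comp_apply]
  let l : (X.presheaf.stalk x : Type u) →+* Γ(T, ⊤) := IsLocalization.lift (M := (hW.primeIdealOf ⟨x, hxW⟩).asIdeal.primeCompl) (S := (X.presheaf.stalk x : Type u)) hunit
  let ψ : X.presheaf.stalk x ⟶ Γ(T, ⊤) := CommRingCat.ofHom l
  refine ⟨T.toSpecΓ ≫ Spec.map ψ, ?_⟩
  have hψ : X.presheaf.germ W x hxW ≫ ψ = φ := by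
    ext a
    show l (algebraMap Γ(X, W) (X.presheaf.stalk x : Type u) a) = φ a
    exact IsLocalization.lift_eq hunit a
  rw [← hW.fromSpecStalk_eq_fromSpecStalk hxW, IsAffineOpen.fromSpecStalk, Category.assoc,
    ← Spec.map_comp_assoc, hψ]
  -- the remaining identity is the adjunction
  haveI : IsAffine W.toScheme := hW
  let g₀ : T ⟶ W.toScheme := IsOpenImmersion.lift W.ι g (by
    rintro _ ⟨t, rfl⟩; rw [Scheme.Opens.range_ι]; exact hgW (trivial : t ∈ (⊤ : T.Opens)))
  have hg₀ : g₀ ≫ W.ι = g := IsOpenImmersion.lift_fac _ _ _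
  have hφ : φ = W.topIso.inv ≫ g₀.appTop := by
    have h1 : ∀ (f' : T ⟶ X) (e : f' = g) (he : (⊤ : T.Opens) ≤ f' ⁻¹ᵁ W),
        f'.appLE W ⊤ he = φ := by
      intro f' e he; subst e; rfl
    rw [← h1 _ hg₀ ((h ⟨⟨W, hW⟩, hxW⟩).ge.trans (by rw [hg₀]))]
    rw [← Scheme.Hom.appLE_comp_appLE _ _ W ⊤ ⊤ (by simp) le_top]
    simp [Scheme.Hom.app_eq_appLE]
    rfl
  rw [hφ, Spec.map_comp_assoc, ← Scheme.toSpecΓ_naturality_assoc]
  conv_rhs => rw [← hg₀]
  congr 1
  simp [← hW.isoSpec_inv_ι, IsAffineOpen.isoSpec, Scheme.isoSpec, ← Spec.map_comp_assoc]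
  erw [Spec.map_id, Category.id_comp, IsIso.hom_inv_id_assoc]

variable (X x) in
/-- `Spec 𝒪_{X,x}` is the limit of the affine neighbourhoods of `x`. -/
def isLimitNhdCone : IsLimit (nhdCone X x) :=
  let W₀ : AffNhd X x := Classical.arbitrary _
  have fac : ∀ (s : Cone (nhdDiagram X x)) (W : AffNhd X x),
      s.π.app W ≫ W.1.1.ι = s.π.app W₀ ≫ W₀.1.1.ι := fun s W => by
    obtain ⟨V, hVW, hVW₀⟩ := exists_le_le W W₀
    rw [← s.w (homOfLE hVW), ← s.w (homOfLE hVW₀)]
    simp [nhdDiagram]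
  have key : ∀ s : Cone (nhdDiagram X x), ∃ m : s.pt ⟶ Spec (X.presheaf.stalk x),
      m ≫ X.fromSpecStalk x = s.π.app W₀ ≫ W₀.1.1.ι := fun s =>
    exists_fromSpecStalk_eq _ fun W => by
      rw [← fac s W, Scheme.Hom.comp_preimage, Scheme.Opens.ι_preimage_self]
      rfl
  { lift := fun s => (key s).choose
    fac := fun s W => by
      change (key s).choose ≫ (nhdCone X x).π.app W = s.π.app W
      haveI : Mono W.1.1.ι := inferInstance
      rw [← cancel_mono W.1.1.ι, Category.assoc, π_ι, (key s).choose_spec]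
      exact (fac s W).symm
    uniq := fun s m hm => by
      refine (cancel_mono (X.fromSpecStalk x)).1 ?_
      refine Eq.trans ?_ (key s).choose_spec.symm
      rw [← hm W₀, Category.assoc, π_ι] }

end

end Groth.Agent.LimLib

namespace Groth.Agent.LimLib

/-- Morphisms which agree on the spectra of all local rings are equal. -/
theorem hom_ext_of_fromSpecStalk {X Y : Scheme.{u}} (f g : X ⟶ Y)
    (h : ∀ z : X, X.fromSpecStalk z ≫ f = X.fromSpecStalk z ≫ g) : f = g := by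
  have hbase : ∀ z, f z = g z := fun z => by
    have := congr($(h z) (IsLocalRing.closedPoint _))
    change f (X.fromSpecStalk z _) = g (X.fromSpecStalk z _) at this
    erw [Scheme.fromSpecStalk_closedPoint] at this
    exact this
  refine Scheme.hom_ext_of_forall _ _ fun x => ?_
  obtain ⟨_, ⟨V, hV, rfl⟩, hxV, -⟩ :=
    Y.isBasis_affineOpens.exists_subset_of_mem_open (Set.mem_univ (f x)) isOpen_univ
  obtain ⟨_, ⟨W, hW, rfl⟩, hxW, hWV⟩ :=
    X.isBasis_affineOpens.exists_subset_of_mem_open (show x ∈ f ⁻¹ᵁ V from hxV) (f ⁻¹ᵁ V).2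
  have hWg : W ≤ g ⁻¹ᵁ V := fun z hz => by
    show g z ∈ V
    rw [← hbase]; exact hWV hz
  refine ⟨W, hxW, ?_⟩
  have key : f.appLE V W hWV = g.appLE V W hWg := by
    ext s
    refine TopCat.Presheaf.section_ext X.sheaf W _ _ fun z hz => ?_
    have h1 : f.appLE V W hWV ≫ X.presheaf.germ W z hz = g.appLE V W hWg ≫ X.presheaf.germ W z hz := by
      apply Spec.map_injective
      rw [← cancel_mono hV.fromSpec, Spec.map_comp_assoc, Spec.map_comp_assoc,
        hV.SpecMap_appLE_fromSpec f hW hWV, hV.SpecMap_appLE_fromSpec g hW hWg]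
      have h2 := h z
      rw [← hW.fromSpecStalk_eq_fromSpecStalk hz, IsAffineOpen.fromSpecStalk, Category.assoc,
        Category.assoc] at h2
      exact h2
    exact congr($h1 s)
  rw [← hW.isoSpec_hom_fromSpec, Category.assoc, Category.assoc,
    ← hV.SpecMap_appLE_fromSpec f hW hWV, ← hV.SpecMap_appLE_fromSpec g hW hWg, key]

end Groth.Agent.LimLib
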